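import Cfsg.Agent.H120.Cyc.DegF4
import Cfsg.Agent.H120.Common
import Cfsg.Agent.H122.MinDeg
import Cfsg.Agent.H934.HeisTwF4
import Cfsg.Agent.Prune
set_option linter.all false

section
prune_inst 0x7f00000000000000000000000000000000000000000000000000000000000000000000000000000000000000000000000000000000000000000000000000000000000000000000000000000000000000003fffffffffffffffffffffffffffbeffbdfbfeffff

-- part: H120/Cyc/DegE
section
set_option linter.all false
open scoped Cfsg.Agent.FastGrp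

/-!
# Minimal degrees of `E₆(q)`, `E₇(q)`, `E₈(q)` (weak bounds)
-/

set_option autoImplicit false
set_option linter.unusedSectionVars false

namespace Cfsg.Agent.H120.CycExc

open Module Cfsg.Lie Cfsg.Agent.ChevalleyStructure.Elts Cfsg.Agent.ChevalleyStructure.RootVec
  Cfsg.Agent.ChevalleyStructure.RootVecTab Cfsg.Agent.ChevalleyStructure.CoxeterGeomTypes
  Cfsg.Agent.Nodes.RGDChev Cfsg.Agent.KFacts.En.Roots Cfsg.Agent.H120.ChevSys Cfsg.Agent.H120.LevMath
  Cfsg.Agent.OddHalf.SL.Defs Cfsg.Agent.H122 Cfsg.Agent.H120.Common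

universe u

/-- the check -/
def EChk (D : ChevalleyDatum) (l : ℕ) (r s : ℕ) (L : List ℕ) (n : ℕ) : Prop :=
  r < D.nroots ∧ s < D.nroots ∧ bf D l (vec D l r) (vec D l s) = 1 ∧ L.length = n + 1 ∧ L.Nodup ∧
  (∀ a ∈ L, a < D.nroots) ∧ (∀ a ∈ L, bf D l (vec D l a) (vec D l r) = 1) ∧
  (∀ a ∈ L, ∀ b ∈ L, 0 ≤ bf D l (vec D l a) (vec D l b))

instance (D : ChevalleyDatum) (l r s : ℕ) (L : List ℕ) (n : ℕ) : Decidable (EChk D l r s L n) := by
  unfold EChk; infer_instance

variable {D : ChevalleyDatum} {l : ℕ} {M : CoxeterMatrix (Fin l)}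

theorem minDeg_E (hp : Ty D l M) (F : Type u) [Field F] [Fintype F] [IsSimpleGroup ↥(D.group F)] {r s : ℕ} {L : List ℕ}
    {n : ℕ} (h : EChk D l r s L n) : MinDeg ↥(D.group F) (Fintype.card F ^ n * (Fintype.card F ^ 2 - 1)) := by
  classical
  obtain ⟨hr, hs, hrs, hlen, hnd, hlt, h1, h2⟩ := h
  have R := rootsZ hp []
  rw [PhiZ_nil] at R
  refine minDeg_sys R (X := fun v a => XX hp v a) (fun M _ _ _ ρ => sys hp ρ) (vec_mem hr) (vec_mem hs) hrs
    (L.map (vec D l)).toFinset ?_ ?_ ?_ ?_ ⟨1, ?_⟩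
  · intro a ha
    rw [List.mem_toFinset, List.mem_map] at ha
    obtain ⟨i, hi, rfl⟩ := ha
    exact vec_mem (hlt i hi)
  · intro a ha
    rw [List.mem_toFinset, List.mem_map] at ha
    obtain ⟨i, hi, rfl⟩ := ha
    exact h1 i hi
  · intro a ha b hb
    rw [List.mem_toFinset, List.mem_map] at ha hb
    obtain ⟨i, hi, rfl⟩ := ha
    obtain ⟨j, hj, rfl⟩ := hb
    exact h2 i hi j hj
  · rw [List.toFinset_card_of_nodup, List.length_map, hlen]
    refine (List.nodup_map_iff_inj_on hnd).2 ?_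
    intro a ha b hb hab
    exact vec_inj hp.ty (hlt a ha) (hlt b hb) hab
  · intro h3
    have h4 := congrArg Subtype.val h3
    have h5 : XG hp (vec D l r) (1 : F) = 1 := h4
    rw [XG_vec hp hr] at h5
    exact one_ne_zero ((xG_eq_one_iff hp.ty.inList hr _).1 h5)

theorem echk6 : EChk chevE6 6 71 70 [54, 55, 63, 64, 65, 66, 67, 68, 69, 70] 9 := by decide +kernel

theorem echk7 : EChk chevE7 7 125 124 [113, 114, 115, 116, 117, 118, 119, 120, 121, 122, 123, 124] 11 := by decide +kernel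

theorem echk8 : EChk chevE8 8 239 238 [216, 217, 218, 220, 221, 222, 223, 224, 225, 227, 228, 229, 230, 231, 232, 233,
    234, 235, 236, 237, 238] 20 := by decide +kernel

end Cfsg.Agent.H120.CycExc
end

-- part: H122/Cyc/TwF4Deg
section
set_option linter.all false
open scoped Cfsg.Agent.FastGrp

/-!
# The degrees of the complex representations of `²F₄(q)`, `q ≥ 8`: at least `2 q⁴`

`E` : the elementary abelian group `X_2' X_3 X_4' X_5 X_6'` of order `q^5`. A nontrivial representation has a weight of `E`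
which is nontrivial on `X_4'`; it has `q⁴` conjugates, each of multiplicity at least two, as `X_4` is not abelian.
-/

set_option autoImplicit false
set_option linter.unusedSectionVars false

namespace Cfsg.Agent.H122.Cyc.TwF4

open Module Cfsg.Agent.H121.Wt Cfsg.Agent.H121.Chr
open Cfsg.Agent.H934.HeisTwF4 Cfsg.Agent.KFacts.TwF4

section

variable {F : Type} [Field F] {σ : F →+* F} {G : Type*} [Group G] (S : Full σ G)

/-- the abelian subgroup, additively -/
def x5 (a : Fin 5 → F) : G := i5 S (fun k => Multiplicative.ofAdd (a k))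

theorem x5_add (a b : Fin 5 → F) : x5 S (a + b) = x5 S a * x5 S b := by
  rw [x5, x5, x5, ← map_mul]
  rfl

theorem x5_inj : Function.Injective (x5 S) := by
  intro a b h
  have h1 := i5_inj S h
  funext k
  exact congrFun h1 k

theorem x5_single (k : Fin 5) (v : F) : x5 S (Pi.single k v) = i5 S (s5 k v) := by
  rw [x5]
  rfl

/-- one coordinate -/
theorem conj_one (k : Fin 5) (hk : k ≠ 2) (s : F) (a : Fin 5 → F) :
    ac S k s * x5 S a = x5 S (a + Pi.single 2 (s * a k)) * ac S k s := by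
  have h1 := conj_i5 S k hk s (fun k => Multiplicative.ofAdd (a k))
  rw [mul_inv_eq_iff_eq_mul] at h1
  rw [x5_add, x5_single, i5_s5]
  exact h1

theorem exists_conj (t : Fin 5 → F) (ht : t 2 = 0) :
    ∃ g : G, ∀ a : Fin 5 → F, g * x5 S a = x5 S (a + Pi.single 2 (∑ k, t k * a k)) * g := by
  refine ⟨ac S 0 (t 0) * (ac S 1 (t 1) * (ac S 3 (t 3) * ac S 4 (t 4))), fun a => ?_⟩
  rw [mul_assoc, mul_assoc, mul_assoc, conj_one S 4 (by decide), ← mul_assoc (ac S 3 (t 3)), conj_one S 3 (by decide),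
    mul_assoc _ (ac S 3 (t 3)), ← mul_assoc (ac S 1 (t 1)), conj_one S 1 (by decide), mul_assoc _ (ac S 1 (t 1)),
    ← mul_assoc (ac S 0 (t 0)), conj_one S 0 (by decide), mul_assoc _ (ac S 0 (t 0))]
  congr 2
  have e3 : ∀ (k : Fin 5) (v : F), k ≠ 2 → (Pi.single 2 v : Fin 5 → F) k = 0 := fun k v hk => Pi.single_eq_of_ne hk _
  simp only [Pi.add_apply, e3 0 _ (by decide), e3 1 _ (by decide), e3 3 _ (by decide), add_zero]
  rw [Fin.sum_univ_five, ht, zero_mul, add_zero, add_assoc, add_assoc, add_assoc, ← Pi.single_add, ← Pi.single_add,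
    ← Pi.single_add]
  congr 2
  ring

end

section

variable {F : Type} [Field F] [Fintype F] [CharP F 2] {σ : F →+* F} {G : Type*} [Group G] (S : Full σ G)

include S in
/-- the commutator form of `X_4` is surjective -/
theorem exists_form (hq : 2 < Fintype.card F) (x : F) : ∃ p q : F, p * σ q + q * σ p = x := by
  classical
  by_cases hx0 : x = 0
  · subst hx0
    exact ⟨0, 0, by simp⟩
  obtain ⟨r, hr⟩ : ∃ r : F, σ r + r ≠ 0 := by
    by_contra hcon
    push Not at hcon
    have h1 : ∀ r : F, σ r = r := fun r => by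
      have h2 := hcon r
      rw [← CharTwo.sub_eq_add, sub_eq_zero] at h2
      exact h2
    have h2 : ∀ r : F, r = 0 ∨ r = 1 := by
      intro r
      have h3 := S.sq r
      rw [h1, h1] at h3
      have h4 : r * (r - 1) = 0 := by linear_combination -h3
      rcases mul_eq_zero.1 h4 with h5 | h5
      · exact Or.inl h5
      · exact Or.inr (sub_eq_zero.1 h5)
    have h3 : (Finset.univ : Finset F) ⊆ {0, 1} := by
      intro r _
      rw [Finset.mem_insert, Finset.mem_singleton]
      exact h2 r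
    have h4 := Finset.card_le_card h3
    have h5 : ({0, 1} : Finset F).card ≤ 2 := Finset.card_le_two
    rw [Finset.card_univ] at h4
    omega
  set z := x / (σ r + r) with hz
  have hz0 : z ≠ 0 := div_ne_zero hx0 hr
  have hsz : σ z ≠ 0 := (map_ne_zero σ).2 hz0
  set p := σ z / z with hp
  have hpp : p * σ p = z := chi_eq S hz0
  refine ⟨p, p * r, ?_⟩
  calc p * σ (p * r) + p * r * σ p = (p * σ p) * (σ r + r) := by rw [map_mul]; ring
    _ = x := by rw [hpp, hz, div_mul_cancel₀ _ hr]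

variable {V : Type*} [AddCommGroup V] [Module ℂ V] [FiniteDimensional ℂ V] (ρ : Representation ℂ G V)

/-- an element commuting with `E` preserves the weight spaces -/
theorem mem_of_comm {g : G} (hg : ∀ a, g * x5 S a = x5 S a * g) {χ : AddChar (Fin 5 → F) ℂ} {v : V}
    (hv : v ∈ wt (fun a => ρ (x5 S a)) χ) : ρ g v ∈ wt (fun a => ρ (x5 S a)) χ :=
  map_wt ρ (f := id) hg Function.surjective_id (fun _ => rfl) hv

theorem comm_x2 (p : F) (a : Fin 5 → F) : S.e 2 p 0 * x5 S a = x5 S a * S.e 2 p 0 := x2_comm S p _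

/-- the multiplicity of a weight nontrivial on `X_4'` is not one -/
theorem two_le (hq : 2 < Fintype.card F) {χ : AddChar (Fin 5 → F) ℂ} {x : F} (hx : χ (Pi.single 2 x) ≠ 1)
    (hw : wt (fun a => ρ (x5 S a)) χ ≠ ⊥) : 2 ≤ finrank ℂ (wt (fun a => ρ (x5 S a)) χ) := by
  set W := wt (fun a => ρ (x5 S a)) χ with hW
  have hpos : 0 < finrank ℂ W := by
    rw [Nat.pos_iff_ne_zero]
    intro h0
    exact hw (Submodule.finrank_eq_zero.1 h0)
  by_contra hcon
  have h1 : finrank ℂ W = 1 := by omega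
  obtain ⟨p, q, hpq⟩ := exists_form S hq x
  obtain ⟨⟨v, hvW⟩, hv0, hv⟩ := finrank_eq_one_iff'.1 h1
  have hv0' : v ≠ 0 := fun h => hv0 (Subtype.ext h)
  have hsc : ∀ g : G, (∀ a, g * x5 S a = x5 S a * g) → ∃ c : ℂ, ρ g v = c • v := by
    intro g hg
    obtain ⟨c, hc⟩ := hv ⟨ρ g v, mem_of_comm S ρ hg hvW⟩
    exact ⟨c, (congrArg Subtype.val hc).symm⟩
  obtain ⟨c, hc⟩ := hsc _ (comm_x2 S p)
  obtain ⟨d, hd⟩ := hsc _ (comm_x2 S q)
  have h2 := x2_com S p q
  rw [hpq, ← x5_single, mul_assoc _ (S.e 2 p 0)⁻¹, ← mul_inv_rev, mul_inv_eq_iff_eq_mul] at h2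
  have h3 := congrArg (fun g => ρ g v) h2
  simp only [map_mul, Module.End.mul_apply] at h3
  have hx5 : ρ (x5 S (Pi.single 2 x)) v = χ (Pi.single 2 x) • v := hvW _
  simp only [hd, map_smul, hc, hx5, smul_smul] at h3
  have h4 : c ≠ 0 := by
    rintro rfl
    rw [zero_smul] at hc
    apply hv0'
    have := congrArg (ρ (S.e 2 p 0)⁻¹) hc
    rwa [map_zero, ← Module.End.mul_apply, ← map_mul, inv_mul_cancel, map_one, Module.End.one_apply] at this
  have h5 : d ≠ 0 := by
    rintro rfl
    rw [zero_smul] at hd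
    apply hv0'
    have := congrArg (ρ (S.e 2 q 0)⁻¹) hd
    rwa [map_zero, ← Module.End.mul_apply, ← map_mul, inv_mul_cancel, map_one, Module.End.one_apply] at this
  have h6 := smul_left_injective ℂ hv0' h3
  apply hx
  have h7 : (χ (Pi.single 2 x) - 1) * (c * d) = 0 := by
    linear_combination -h6
  rcases mul_eq_zero.1 h7 with h8 | h8
  · exact sub_eq_zero.1 h8
  · rcases mul_eq_zero.1 h8 with h9 | h9
    · exact absurd h9 h4
    · exact absurd h9 h5

/-- the restriction of a character to the coordinate `2` -/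
def c2 (χ : AddChar (Fin 5 → F) ℂ) : AddChar F ℂ where
  toFun x := χ (Pi.single 2 x)
  map_zero_eq_one' := by rw [Pi.single_zero, AddChar.map_zero_eq_one]
  map_add_eq_mul' x y := by rw [Pi.single_add, AddChar.map_add_eq_mul]

/-- the twist of a character -/
def tw (χ : AddChar (Fin 5 → F) ℂ) (t : Fin 5 → F) : AddChar (Fin 5 → F) ℂ where
  toFun a := χ a * c2 χ (∑ k, t k * a k)
  map_zero_eq_one' := by simp
  map_add_eq_mul' a b := by
    have h : ∑ k, t k * (a + b) k = (∑ k, t k * a k) + ∑ k, t k * b k := by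
      rw [← Finset.sum_add_distrib]
      exact Finset.sum_congr rfl fun k _ => by rw [Pi.add_apply, mul_add]
    rw [h, AddChar.map_add_eq_mul, AddChar.map_add_eq_mul]
    ring

theorem tw_apply (χ : AddChar (Fin 5 → F) ℂ) (t a : Fin 5 → F) : tw χ t a = χ a * c2 χ (∑ k, t k * a k) := rfl

theorem sum_single (t : Fin 5 → F) (k : Fin 5) (v : F) : ∑ l, t l * (Pi.single k v : Fin 5 → F) l = t k * v := by
  rw [Finset.sum_eq_single k]
  · rw [Pi.single_eq_same]
  · intro l _ hl
    rw [Pi.single_eq_of_ne hl, mul_zero]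
  · intro h
    exact absurd (Finset.mem_univ k) h

theorem finrank_tw (χ : AddChar (Fin 5 → F) ℂ) (t : Fin 5 → F) (ht : t 2 = 0) :
    finrank ℂ (wt (fun a => ρ (x5 S a)) (tw χ t)) = finrank ℂ (wt (fun a => ρ (x5 S a)) χ) := by
  obtain ⟨g, hg⟩ := exists_conj S t ht
  have hch : ∀ x : F, x + x = 0 := fun x => CharTwo.add_self_eq_zero x
  let f : (Fin 5 → F) → (Fin 5 → F) := fun a => a + Pi.single 2 (∑ k, t k * a k)
  have hinv : ∀ a : Fin 5 → F, f (f a) = a := by
    intro a
    have h1 : ∑ k, t k * (f a) k = ∑ k, t k * a k := by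
      have h2 : ∑ k, t k * (f a) k =
          (∑ k, t k * a k) + ∑ k, t k * (Pi.single 2 (∑ k, t k * a k) : Fin 5 → F) k := by
        rw [← Finset.sum_add_distrib]
        exact Finset.sum_congr rfl fun k _ => mul_add _ _ _
      rw [h2, sum_single, ht, zero_mul, add_zero]
    have h3 : f (f a) = f a + Pi.single 2 (∑ k, t k * (f a) k) := rfl
    have h4 : f a = a + Pi.single 2 (∑ k, t k * a k) := rfl
    rw [h3, h1, h4, add_assoc, ← Pi.single_add, hch, Pi.single_zero, add_zero]
  refine finrank_wt_eq ρ (x := x5 S) (g := g) (f := f) hg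
    (Function.bijective_iff_has_inverse.2 ⟨f, hinv, hinv⟩) fun a => ?_
  have h4 : f a = a + Pi.single 2 (∑ k, t k * a k) := rfl
  rw [h4, AddChar.map_add_eq_mul, tw_apply]
  rfl

theorem tw_inj {χ : AddChar (Fin 5 → F) ℂ} (hχ : c2 χ ≠ 1) : Function.Injective (tw χ) := by
  intro t t' h
  funext k
  have h1 : AddChar.mulShift (c2 χ) (t k) = AddChar.mulShift (c2 χ) (t' k) := by
    ext v
    have h2 := DFunLike.congr_fun h (Pi.single k v)
    rw [tw_apply, tw_apply, sum_single, sum_single] at h2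
    rw [AddChar.mulShift_apply, AddChar.mulShift_apply]
    exact mul_left_cancel₀ (ne_zero' χ _) h2
  exact AddChar.to_mulShift_inj_of_isPrimitive (AddChar.IsPrimitive.of_ne_one hχ) h1

/-- coordinates -/
def b5' (b : Fin 4 → F) : Fin 5 → F := ![b 0, b 1, 0, b 2, b 3]

theorem b5'_inj : Function.Injective (b5' (F := F)) := by
  intro b b' h1
  funext k
  fin_cases k
  · exact congrFun h1 0
  · exact congrFun h1 1
  · exact congrFun h1 3
  · exact congrFun h1 4

include S in
/-- **the degrees of the representations** -/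
theorem minDeg [IsSimpleGroup G] (hq : 2 < Fintype.card F) : MinDeg G (2 * Fintype.card F ^ 4) := by
  classical
  intro M _ _ _ ρ hρ
  have hact : IsAct (fun a => ρ (x5 S a)) := isAct_of ρ (x5_add S)
  have hne : x5 S (Pi.single 2 1) ≠ 1 := by
    intro h
    have h0 : x5 S (0 : Fin 5 → F) = 1 := by
      have := x5_add S 0 0
      rw [add_zero] at this
      exact mul_eq_left.1 this.symm
    have h1 := x5_inj S (h.trans h0.symm)
    have h2 := congrFun h1 2
    rw [Pi.single_eq_same] at h2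
    exact one_ne_zero h2
  obtain ⟨χ, hw, hχ⟩ := exists_wt hact (faithful ρ hρ hne)
  have hc2 : c2 χ ≠ 1 := by
    intro h
    exact hχ (DFunLike.congr_fun h (1 : F))
  have h2 := two_le S ρ hq hχ hw
  have h3 := mul_card_le hact (Finset.univ.image fun b : Fin 4 → F => tw χ (b5' b)) 2 (by
    intro φ hφ
    rw [Finset.mem_image] at hφ
    obtain ⟨b, -, rfl⟩ := hφ
    rw [finrank_tw S ρ χ _ rfl]
    exact h2)
  have h4 : Function.Injective fun b : Fin 4 → F => tw χ (b5' b) := (tw_inj hc2).comp b5'_inj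
  rw [Finset.card_image_of_injective _ h4, Finset.card_univ, Fintype.card_fun, Fintype.card_fin] at h3
  exact h3

end

/-- **`²F₄(q)`**, `q ≥ 8` -/
theorem minDeg_twf4 {K : Type} [Field K] [Fintype K] {m : ℕ} (hm : 1 ≤ m) (hK : Fintype.card K = 2 ^ (2 * m + 1))
    (hs : IsSimpleGroup ↥(Cfsg.Lie.twistedF4 K (2 ^ m))) :
    MinDeg ↥(Cfsg.Lie.twistedF4 K (2 ^ m)) (2 * Fintype.card K ^ 4) := by
  have : CharP K 2 := Cfsg.Agent.ChevalleyStructure.TwF4.Twisted.charP_two hK
  obtain ⟨φ, hφ⟩ := Cfsg.Agent.ChevalleyStructure.TwF4.TwistedFix.exists_rln hK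
  have h2 : 2 < Fintype.card K := by
    rw [hK]
    calc 2 < 2 ^ 3 := by norm_num
      _ ≤ 2 ^ (2 * m + 1) := Nat.pow_le_pow_right (by norm_num) (by omega)
  exact minDeg (Cfsg.Agent.KFacts.TwF4.Inst.full hK hφ) h2

end Cfsg.Agent.H122.Cyc.TwF4

private theorem dce_a1951db3ceb2 : _root_.True := by
  try have : _root_.True := by simp only [_root_.Cfsg.Agent.H122.Cyc.TwF4.x5.eq_1]
  exact _root_.True.intro
end
end
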