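import Mathlib
import Cfsg.Agent.H124.SplitNC
import Cfsg.Agent.GTwoOdd.SLNormal
import Cfsg.Agent.ClassicalGeometry.PSL2Basic
import Cfsg.Agent.S2540
import Cfsg.Agent.H953.Index
import Cfsg.Agent.TitsThree.KExcRT
import Cfsg.Agent.AGraded.Hom
import Cfsg.Agent.H135.KTwoB
import Cfsg.Agent.S1037
import Cfsg.Agent.S1030
import Cfsg.Agent.H120.Cyc.DegE_m3
import Cfsg.Agent.H120.Cyc.DegF4
import Cfsg.Agent.S1055
import Cfsg.Agent.S1059
import Cfsg.Agent.S1062
import Cfsg.Agent.S1063
import Cfsg.Agent.S1064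
import Cfsg.Agent.S1065
import Cfsg.Agent.FastGrp
import Cfsg.Agent.Prune
set_option linter.all false
prune_inst 0x7f00000000000000000000000000000000000000000000000000000000000000000000000000000000000000000000000000000000000000000000000000000000000000000000000000000000000000003fffffffffffffffffffffffffffbeffbdffffffff
open scoped Cfsg.Agent.FastGrp

-- part: H120/Cyc/Num
section
/-!
# The `p`-part of `∏ (q ^ d - 1)`

`fold` : with `e` the order of `q` modulo `p`; `bound` : the `p`-part is at most `q ^ M`.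
-/

set_option autoImplicit false

namespace Cfsg.Agent.H120.CycExc.Num

variable {p q : ℕ}

theorem dvd_iff (hq : 1 ≤ q) (d : ℕ) : p ∣ q ^ d - 1 ↔ orderOf (q : ZMod p) ∣ d := by
  rw [orderOf_dvd_iff_pow_eq_one, ← ZMod.natCast_eq_zero_iff, Nat.cast_sub (Nat.one_le_pow _ _ hq), Nat.cast_pow,
    Nat.cast_one, sub_eq_zero]

/-- a factor prime to `p` -/
theorem step0 (hp : p.Prime) {a R S : ℕ} (h1 : ¬ p ∣ S) (h : p ^ a ∣ R * S) : p ^ a ∣ R :=
  (((Nat.Prime.coprime_iff_not_dvd hp).2 h1).pow_left a).dvd_of_dvd_mul_right h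

/-- one factor -/
theorem step (hp : p.Prime) (hq : 1 ≤ q) {e m a R : ℕ} (h1 : p ∣ q ^ e - 1) (hm : ¬ p ∣ m)
    (h : p ^ a ∣ R * (q ^ (e * m) - 1)) : p ^ a ∣ R * (q ^ e - 1) := by
  obtain ⟨x, hx⟩ : ∃ x, q ^ e = x + 1 := ⟨q ^ e - 1, by have := Nat.one_le_pow e q hq; omega⟩
  have h2 := geom_sum_mul_add x m
  rw [pow_mul, hx, ← h2, Nat.add_sub_cancel] at h
  rw [hx, Nat.add_sub_cancel] at h1 ⊢
  rw [mul_comm (∑ i ∈ Finset.range m, (x + 1) ^ i), ← mul_assoc] at h
  refine step0 hp ?_ h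
  intro h3
  apply hm
  rw [← ZMod.natCast_eq_zero_iff] at h1 h3 ⊢
  push_cast at h3
  rw [h1] at h3
  simpa only [_root_.zero_add, _root_.one_pow, _root_.Finset.sum_const, _root_.Finset.card_range, _root_.nsmul_eq_mul, _root_.mul_one] using h3

theorem fold (hp : p.Prime) (hq : 1 ≤ q) {a : ℕ} (l : List ℕ) :
    ∀ (R : ℕ) (_ : ∀ d ∈ l, orderOf (q : ZMod p) ∣ d → ¬ p ∣ d / orderOf (q : ZMod p))
      (_ : p ^ a ∣ R * (l.map fun d => q ^ d - 1).prod),
      p ^ a ∣ R * (q ^ orderOf (q : ZMod p) - 1) ^ (l.countP fun d => decide (orderOf (q : ZMod p) ∣ d)) := by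
  induction l with
  | nil =>
    intro R _ h
    simpa only [_root_.List.countP_nil, _root_.pow_zero, _root_.mul_one, _root_.List.map_nil, _root_.List.prod_nil] using h
  | cons d l ih =>
    intro R hl h
    rw [List.map_cons, List.prod_cons, ← mul_assoc] at h
    have hl' : ∀ d ∈ l, orderOf (q : ZMod p) ∣ d → ¬ p ∣ d / orderOf (q : ZMod p) :=
      fun d hd => hl d (List.mem_cons_of_mem _ hd)
    by_cases hd : orderOf (q : ZMod p) ∣ d
    · have h1 : p ^ a ∣ (R * (l.map fun d => q ^ d - 1).prod) * (q ^ (orderOf (q : ZMod p) * (d / orderOf (q : ZMod p))) - 1) := by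
        rw [Nat.mul_div_cancel' hd]
        convert h using 1
        ring
      have h2 := step hp hq ((dvd_iff hq _).2 dvd_rfl) (hl d List.mem_cons_self hd) h1
      have h3 : p ^ a ∣ (R * (q ^ orderOf (q : ZMod p) - 1)) * (l.map fun d => q ^ d - 1).prod := by
        convert h2 using 1
        ring
      have h4 := ih _ hl' h3
      rw [List.countP_cons_of_pos (by simpa only [_root_.decide_eq_true_eq] using hd), pow_succ]
      convert h4 using 1
      ring
    · have h1 : p ^ a ∣ (R * (l.map fun d => q ^ d - 1).prod) * (q ^ d - 1) := by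
        convert h using 1
        ring
      have h2 := step0 hp (fun h => hd ((dvd_iff hq d).1 h)) h1
      rw [List.countP_cons_of_neg (by simpa only [_root_.decide_eq_true_eq] using hd)]
      exact ih _ hl' h2

/-- the power `X ^ k` -/
theorem step_pow (hp : p.Prime) {a R S X k : ℕ} (h1 : ¬ p ∣ S) (h : p ^ a ∣ R * (S * X) ^ k) : p ^ a ∣ R * X ^ k := by
  have h2 : p ^ a ∣ (R * X ^ k) * S ^ k := by
    convert h using 1
    rw [mul_pow]
    ring
  exact step0 hp (fun h3 => h1 (hp.dvd_of_dvd_pow h3)) h2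

theorem half (hp : p.Prime) (hq : 1 ≤ q) {a R k f : ℕ} (hf : 0 < f) (he : orderOf (q : ZMod p) = 2 * f)
    (h : p ^ a ∣ R * (q ^ (2 * f) - 1) ^ k) : p ^ a ∣ R * (q ^ f + 1) ^ k := by
  have e1 : q ^ (2 * f) - 1 = (q ^ f - 1) * (q ^ f + 1) := by
    obtain ⟨x, hx⟩ : ∃ x, q ^ f = x + 1 := ⟨q ^ f - 1, by have := Nat.one_le_pow f q hq; omega⟩
    rw [two_mul, pow_add, hx, Nat.add_sub_cancel]
    have : (x + 1) * (x + 1) = x * (x + 1 + 1) + 1 := by ring
    rw [this, Nat.add_sub_cancel]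
  rw [e1] at h
  refine step_pow hp ?_ h
  intro h3
  rw [dvd_iff hq, he] at h3
  have := Nat.le_of_dvd hf h3
  omega

/-- the exponent of the bound -/
def expo (e k : ℕ) : ℕ := if e % 2 = 0 then (e / 2 + 1) * k else e * k

/-- the check -/
def chk (l : List ℕ) (M e : ℕ) : Bool :=
  decide (expo e (l.countP fun d => decide (e ∣ d)) ≤ M) &&
    l.all fun d => !(decide (e ∣ d)) || (decide (d / e ≠ 0) && decide (d / e ≤ 10) && decide (d / e ≠ 7) &&
      (decide (e ≠ 4) || decide (d / e < 5)))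

theorem not_dvd_of (hp : p.Prime) (hp5 : 5 ≤ p) (hpq : ¬ p ∣ q) (he3 : 3 ≤ orderOf (q : ZMod p)) {m : ℕ} (h0 : m ≠ 0)
    (h10 : m ≤ 10) (h7 : m ≠ 7) (h4 : orderOf (q : ZMod p) ≠ 4 ∨ m < 5) : ¬ p ∣ m := by
  intro h
  have hle := Nat.le_of_dvd (Nat.pos_of_ne_zero h0) h
  have : Fact p.Prime := ⟨hp⟩
  have hq0 : (q : ZMod p) ≠ 0 := by
    rwa [Ne, ZMod.natCast_eq_zero_iff]
  have h1 := ZMod.orderOf_dvd_card_sub_one hq0
  have h2 := Nat.le_of_dvd (by omega) h1
  have hp10 : p ≤ 10 := by omega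
  generalize orderOf (q : ZMod p) = e at *
  interval_cases p
  · rcases h4 with h4 | h4
    · have : e = 3 ∨ e = 4 := by omega
      rcases this with rfl | rfl
      · omega
      · exact h4 rfl
    · omega
  · exact absurd hp (by norm_num)
  · obtain ⟨k, rfl⟩ := h
    omega
  · exact absurd hp (by norm_num)
  · exact absurd hp (by norm_num)
  · exact absurd hp (by norm_num)

theorem le_pow_succ (hq : 2 ≤ q) (f : ℕ) : q ^ f + 1 ≤ q ^ (f + 1) := by
  have h1 := Nat.one_le_pow f q (by omega)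
  rw [pow_succ]
  nlinarith

/-- **The bound.** -/
theorem bound (hp : p.Prime) (hp5 : 5 ≤ p) (hpq : ¬ p ∣ q) (hq : 2 ≤ q) (he3 : 3 ≤ orderOf (q : ZMod p)) {l : List ℕ}
    {M a : ℕ} (hchk : chk l M (orderOf (q : ZMod p)) = true) (h : p ^ a ∣ (l.map fun d => q ^ d - 1).prod) :
    p ^ a ≤ q ^ M := by
  rw [chk, Bool.and_eq_true, List.all_eq_true, decide_eq_true_eq] at hchk
  obtain ⟨hM, hl⟩ := hchk
  have hq1 : 1 ≤ q := by omega
  have h0 : ∀ d ∈ l, orderOf (q : ZMod p) ∣ d → ¬ p ∣ d / orderOf (q : ZMod p) := by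
    intro d hd hed
    have h2 := hl d hd
    simp only [Bool.and_eq_true, decide_eq_true_eq, Bool.or_eq_true, Bool.not_eq_true', decide_eq_false_iff_not] at h2
    rcases h2 with h2 | h2
    · exact absurd hed h2
    · exact not_dvd_of hp hp5 hpq he3 h2.1.1.1 h2.1.1.2 h2.1.2 h2.2
  have h1 := fold (q := q) hp hq1 l 1 h0 (by rwa [one_mul])
  refine le_trans ?_ (Nat.pow_le_pow_right (by omega) hM)
  unfold expo
  split_ifs with hev
  · obtain ⟨f, hf⟩ : ∃ f, orderOf (q : ZMod p) = 2 * f := ⟨orderOf (q : ZMod p) / 2, by omega⟩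
    rw [hf] at h1
    have h2 := half hp (by omega) (by omega) hf h1
    rw [one_mul] at h2
    refine (Nat.le_of_dvd (by positivity) h2).trans ?_
    rw [hf, Nat.mul_div_cancel_left f (by norm_num), pow_mul]
    exact Nat.pow_le_pow_left (le_pow_succ hq f) _
  · rw [one_mul] at h1
    have h3 : 2 ^ 3 ≤ q ^ orderOf (q : ZMod p) :=
      (Nat.pow_le_pow_left hq 3).trans (Nat.pow_le_pow_right (by omega) he3)
    refine (Nat.le_of_dvd (Nat.pow_pos (by omega)) h1).trans ?_
    rw [pow_mul]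
    exact Nat.pow_le_pow_left (Nat.sub_le _ _) _

/-- the bound for all possible orders -/
theorem bound_all (hp : p.Prime) (hp5 : 5 ≤ p) (hpq : ¬ p ∣ q) (hq : 2 ≤ q) (he3 : 3 ≤ orderOf (q : ZMod p)) {l : List ℕ}
    {M N a : ℕ} (hl : ∀ d ∈ l, d ≠ 0 ∧ d ≤ N) (hchk : orderOf (q : ZMod p) ≤ N → chk l M (orderOf (q : ZMod p)) = true)
    (h : p ^ a ∣ (l.map fun d => q ^ d - 1).prod) : p ^ a ≤ q ^ M := by
  rcases Nat.lt_or_ge N (orderOf (q : ZMod p)) with h1 | h1
  · have h2 : ∀ d ∈ l, ¬ orderOf (q : ZMod p) ∣ d := by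
      intro d hd hed
      have := Nat.le_of_dvd (Nat.pos_of_ne_zero (hl d hd).1) hed
      have := (hl d hd).2
      omega
    have hq1 : 1 ≤ q := by omega
    have h3 := fold (q := q) hp hq1 l 1 (fun d hd hed => absurd hed (h2 d hd)) (by rwa [one_mul])
    have h4 : (l.countP fun d => decide (orderOf (q : ZMod p) ∣ d)) = 0 := by
      rw [List.countP_eq_zero]
      intro d hd
      simpa only [_root_.decide_eq_true_eq] using h2 d hd
    rw [h4, pow_zero, one_mul] at h3
    exact (Nat.le_of_dvd one_pos h3).trans (Nat.one_le_pow _ _ (by omega))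
  · exact bound hp hp5 hpq hq he3 (hchk h1) h

/-- the order of `q` modulo `p` is at least three -/
theorem three_le (hp : p.Prime) (hq : 1 ≤ q) (hd : ¬ p ∣ q * (q ^ 2 - 1)) : ¬ p ∣ q ∧ 3 ≤ orderOf (q : ZMod p) := by
  have h1 : ¬ p ∣ q := fun h => hd (h.mul_right _)
  have h2 : ¬ p ∣ q ^ 2 - 1 := fun h => hd (h.mul_left _)
  refine ⟨h1, ?_⟩
  rw [dvd_iff hq] at h2
  have : Fact p.Prime := ⟨hp⟩
  have hq0 : (q : ZMod p) ≠ 0 := by rwa [Ne, ZMod.natCast_eq_zero_iff]
  have h3 : 0 < orderOf (q : ZMod p) := by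
    rw [orderOf_pos_iff, isOfFinOrder_iff_pow_eq_one]
    exact ⟨p - 1, by have := hp.two_le; omega, ZMod.pow_card_sub_one_eq_one hq0⟩
  by_contra hcon
  apply h2
  have : orderOf (q : ZMod p) = 1 ∨ orderOf (q : ZMod p) = 2 := by omega
  rcases this with h | h <;> rw [h] <;> norm_num

/-- an odd prime not dividing `q (q ^ 2 - 1)` is at least five -/
theorem five_le (hp : p.Prime) (hp2 : p ≠ 2) (hq : 1 ≤ q) (hd : ¬ p ∣ q * (q ^ 2 - 1)) : 5 ≤ p := by
  by_contra hcon
  have h2 := hp.two_le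
  interval_cases p
  · exact hp2 rfl
  · apply hd
    have h3 : q % 3 = 0 ∨ q % 3 = 1 ∨ q % 3 = 2 := by omega
    rcases h3 with h | h
    · exact (Nat.dvd_of_mod_eq_zero h).mul_right _
    · refine Dvd.dvd.mul_left ?_ _
      refine (Nat.modEq_iff_dvd' (Nat.one_le_pow 2 q hq)).1 ?_
      show 1 % 3 = q ^ 2 % 3
      rw [Nat.pow_mod]
      rcases h with h | h <;> rw [h]
  · exact absurd hp (by norm_num)

end Cfsg.Agent.H120.CycExc.Num
end

-- part: H120/Cyc/Pair
section
/-!
# Commuting images of `SL₂(q)` and noncyclic Sylow subgroups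

`cc φ` : the elements whose image commutes with the range; `exists_two` : an element of order `p` of `SL₂(q)` outside
`cc φ`; `nc_of_two` : two commuting homomorphisms with such elements.
-/

set_option autoImplicit false
set_option linter.unusedSectionVars false

namespace Cfsg.Agent.H120.CycExc

open Matrix Subgroup Cfsg.Agent.H123.SpNC

section cc

variable {H G : Type*} [Group H] [Group G]

/-- the elements whose image commutes with the range -/
def cc (φ : H →* G) : Subgroup H where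
  carrier := {x | ∀ y, φ x * φ y = φ y * φ x}
  one_mem' := fun y => by rw [map_one, one_mul, mul_one]
  mul_mem' := by
    intro a b ha hb y
    rw [map_mul, mul_assoc, hb y, ← mul_assoc, ha y, mul_assoc]
  inv_mem' := by
    intro a ha y
    rw [map_inv]
    have h : φ a * φ y = φ y * φ a := ha y
    calc (φ a)⁻¹ * φ y = (φ a)⁻¹ * (φ y * φ a) * (φ a)⁻¹ := by group
      _ = (φ a)⁻¹ * (φ a * φ y) * (φ a)⁻¹ := by rw [h]
      _ = φ y * (φ a)⁻¹ := by group

theorem mem_cc {φ : H →* G} {x : H} : x ∈ cc φ ↔ ∀ y, φ x * φ y = φ y * φ x := Iff.rfl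

theorem cc_normal (φ : H →* G) : (cc φ).Normal := by
  constructor
  intro x hx g y
  have h := (mem_cc.1 hx) (g⁻¹ * y * g)
  rw [map_mul, map_mul, map_inv] at h
  rw [map_mul, map_mul, map_inv]
  calc φ g * φ x * (φ g)⁻¹ * φ y = φ g * (φ x * ((φ g)⁻¹ * φ y * φ g)) * (φ g)⁻¹ := by group
    _ = φ g * (((φ g)⁻¹ * φ y * φ g) * φ x) * (φ g)⁻¹ := by rw [h]
    _ = φ y * (φ g * φ x * (φ g)⁻¹) := by group

theorem ne_one_of_notMem {φ : H →* G} {x : H} (hx : x ∉ cc φ) : φ x ≠ 1 := by
  intro h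
  exact hx fun y => by rw [h, one_mul, mul_one]

/-- two commuting homomorphisms -/
theorem nc_of_two {H' : Type*} [Group H'] [Finite G] {p : ℕ} [hp : Fact p.Prime] {φ : H →* G} {ψ : H' →* G}
    (hc : ∀ x y, φ x * ψ y = ψ y * φ x) (h1 : ∃ x, x ^ p = 1 ∧ x ∉ cc φ) (h2 : ∃ y, y ^ p = 1 ∧ y ∉ cc ψ) : NC p G := by
  obtain ⟨x, hx, hxc⟩ := h1
  obtain ⟨y, hy, hyc⟩ := h2
  have ho : orderOf (ψ y) = p := orderOf_eq_prime (by rw [← map_pow, hy, map_one]) (ne_one_of_notMem hyc)
  refine nc_of_pair ho (b := φ x) (by rw [← map_pow, hx, map_one]) (hc x y).symm ?_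
  rintro ⟨i, hi⟩
  apply hxc
  intro z
  have hi' : ψ y ^ i = φ x := hi
  rw [← hi']
  exact (((show Commute (φ z) (ψ y) from hc z y).zpow_right i).eq).symm

end cc

section two

variable {F : Type*} [Field F]

/-- upper unipotent matrices -/
def uu (t : F) : _root_.Matrix.SpecialLinearGroup (Fin 2) F := ⟨!![1, t; 0, 1], by simp [Matrix.det_fin_two]⟩

/-- lower unipotent matrices -/
def vv (t : F) : _root_.Matrix.SpecialLinearGroup (Fin 2) F := ⟨!![1, 0; t, 1], by simp [Matrix.det_fin_two]⟩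

theorem uu_add (s t : F) : uu (s + t) = uu s * uu t := by
  apply Subtype.ext
  show !![1, s + t; 0, 1] = !![1, s; 0, 1] * !![1, t; 0, 1]
  rw [Matrix.mul_fin_two]
  congr 1
  ext i j
  (revert i j; simp [add_comm, _root_.Fin.forall_fin_succ])

theorem uu_zero : uu (0 : F) = 1 := by
  apply Subtype.ext
  show !![1, (0 : F); 0, 1] = 1
  rw [Matrix.one_fin_two]

theorem uu_pow (t : F) (n : ℕ) : uu t ^ n = uu (n * t) := by
  induction n with
  | zero => rw [pow_zero, Nat.cast_zero, zero_mul, uu_zero]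
  | succ n ih =>
    rw [pow_succ, ih, ← uu_add]
    congr 1
    push_cast
    ring

variable {G : Type*} [Group G] {φ : _root_.Matrix.SpecialLinearGroup (Fin 2) F →* G}

theorem uu_notMem (h1 : φ (uu 1) ≠ φ (vv (-1))) : uu 1 ∉ cc φ := by
  intro h
  apply h1
  have e : (uu (1 : F) * vv (-1) * uu 1) * uu 1 = vv (-1) * (uu 1 * vv (-1) * uu 1) := by
    apply Subtype.ext
    show (!![1, (1 : F); 0, 1] * !![1, 0; (-1 : F), 1] * !![1, 1; 0, 1]) * !![1, 1; 0, 1] =
      !![1, 0; (-1 : F), 1] * (!![1, (1 : F); 0, 1] * !![1, 0; (-1 : F), 1] * !![1, 1; 0, 1])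
    simp only [Matrix.mul_fin_two]
    congr 1
    ext i j
    (revert i j; simp [_root_.Fin.forall_fin_succ])
  have h2 := (mem_cc.1 h) (uu (1 : F) * vv (-1) * uu 1)
  have h3 := congrArg φ e
  rw [map_mul φ _ (uu 1), ← h2, map_mul φ (vv (-1))] at h3
  exact mul_right_cancel h3

/-- **An element of order `p` of `SL₂(q)` whose image does not commute with the range.** -/
theorem exists_two [Fintype F] {p : ℕ} [hp : Fact p.Prime] (hp2 : p ≠ 2)
    (hd : p ∣ Fintype.card F * (Fintype.card F ^ 2 - 1)) (h1 : φ (uu 1) ≠ φ (vv (-1)))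
    (h2 : φ (uu 1) * φ (vv 1) ≠ 1) : ∃ x, x ^ p = 1 ∧ x ∉ cc φ := by
  have hu := uu_notMem h1
  by_cases hpF : (p : F) = 0
  · refine ⟨uu 1, ?_, hu⟩
    rw [uu_pow, hpF, zero_mul, uu_zero]
  rcases Nat.lt_or_ge 3 (Fintype.card F) with hq | hq
  · -- `q > 3`
    obtain ⟨x, hx⟩ := exists_prime_orderOf_dvd_card' (G := _root_.Matrix.SpecialLinearGroup (Fin 2) F) p
      (by rw [Cfsg.Agent.ClassicalGeometry.PSL2Basic.card_SL2]; exact hd)
    refine ⟨x, by rw [← hx, pow_orderOf_eq_one], ?_⟩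
    intro hxc
    have hN := cc_normal φ
    have hcen : x ∈ Subgroup.center (_root_.Matrix.SpecialLinearGroup (Fin 2) F) := by
      by_contra hcon
      have := Cfsg.Agent.GTwoOdd.SLNormal.eq_top hq (cc φ) hxc hcon
      exact hu (this ▸ Subgroup.mem_top _)
    rw [Matrix.SpecialLinearGroup.mem_center_iff] at hcen
    obtain ⟨r, hr, hrx⟩ := hcen
    have hx2 : x ^ 2 = 1 := by
      apply Subtype.ext
      rw [pow_two]
      show (x : Matrix (Fin 2) (Fin 2) F) * (x : Matrix (Fin 2) (Fin 2) F) = 1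
      rw [Fintype.card_fin] at hr
      rw [← hrx, ← map_mul, ← pow_two, hr, map_one]
    have h3 := orderOf_dvd_of_pow_eq_one hx2
    rw [hx] at h3
    exact hp2 ((Nat.prime_dvd_prime_iff_eq hp.out Nat.prime_two).1 h3)
  · have hq1 : 1 < Fintype.card F := Fintype.one_lt_card
    have hq2 : Fintype.card F = 2 ∨ Fintype.card F = 3 := by omega
    rcases hq2 with hq2 | hq3
    · -- `q = 2`
      rw [hq2] at hd
      have hp3 : p = 3 := by
        have h3 : p ∣ 2 * 3 := hd
        rcases (Nat.Prime.dvd_mul hp.out).1 h3 with h4 | h4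
        · exact absurd ((Nat.prime_dvd_prime_iff_eq hp.out Nat.prime_two).1 h4) hp2
        · exact (Nat.prime_dvd_prime_iff_eq hp.out Nat.prime_three).1 h4
      have hF2 : (2 : F) = 0 := by
        have h4 : ((Fintype.card F : ℕ) : F) = 0 := Nat.cast_card_eq_zero F
        rw [hq2] at h4
        exact_mod_cast h4
      have hF2' : (1 : F) + 1 = 0 := by rw [one_add_one_eq_two, hF2]
      have huu : uu (1 : F) * uu 1 = 1 := by rw [← uu_add, hF2', uu_zero]
      have hvv : vv (1 : F) * vv 1 = 1 := by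
        apply Subtype.ext
        show !![1, 0; (1 : F), 1] * !![1, 0; (1 : F), 1] = 1
        rw [Matrix.mul_fin_two, Matrix.one_fin_two]
        congr 1
        ext i j
        (revert i j; simp [hF2', _root_.Fin.forall_fin_succ])
      have hx3 : (uu (1 : F) * vv 1) ^ 3 = 1 := by
        apply Subtype.ext
        rw [pow_succ, pow_two]
        show ((!![1, (1 : F); 0, 1] * !![1, 0; (1 : F), 1]) * (!![1, (1 : F); 0, 1] * !![1, 0; (1 : F), 1])) *
          (!![1, (1 : F); 0, 1] * !![1, 0; (1 : F), 1]) = 1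
        simp only [Matrix.mul_fin_two]
        rw [Matrix.one_fin_two]
        congr 1
        ext i j
        (revert i j; simp [hF2', _root_.Fin.forall_fin_succ])
      refine ⟨uu 1 * vv 1, by rw [hp3, hx3], ?_⟩
      intro hxc
      apply h2
      set a := φ (uu 1) with ha
      set b := φ (vv 1) with hb
      have ea : a * a = 1 := by rw [ha, ← map_mul, huu, map_one]
      have eb : b * b = 1 := by rw [hb, ← map_mul, hvv, map_one]
      have e3 : (a * b) ^ 3 = 1 := by rw [ha, hb, ← map_mul, ← map_pow, hx3, map_one]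
      have e4 : (a * b) * a = a * (a * b) := by
        have := (mem_cc.1 hxc) (uu 1)
        rwa [map_mul] at this
      have e5 : a * b * a = b := by rw [e4, ← mul_assoc, ea, one_mul]
      have e6 : b * a = a * b := by
        calc b * a = (a * b * a) * a := by rw [e5]
          _ = a * b := by rw [mul_assoc, ea, mul_one]
      have e7 : (a * b) * (a * b) = 1 := by
        calc (a * b) * (a * b) = a * (b * a) * b := by group
          _ = a * (a * b) * b := by rw [e6]
          _ = (a * a) * (b * b) := by group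
          _ = 1 := by rw [ea, eb, one_mul]
      rwa [pow_succ, pow_two, e7, one_mul] at e3
    · -- `q = 3`
      exfalso
      rw [hq3] at hd
      have hp3 : p = 3 := by
        have h3 : p ∣ 3 * 2 ^ 3 := hd
        rcases (Nat.Prime.dvd_mul hp.out).1 h3 with h4 | h4
        · exact (Nat.prime_dvd_prime_iff_eq hp.out Nat.prime_three).1 h4
        · exact absurd ((Nat.prime_dvd_prime_iff_eq hp.out Nat.prime_two).1 (hp.out.dvd_of_dvd_pow h4)) hp2
      apply hpF
      have h4 : ((Fintype.card F : ℕ) : F) = 0 := Nat.cast_card_eq_zero F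
      rw [hq3] at h4
      rw [hp3]
      exact h4

end two

section three

variable {F : Type*} [Field F] {G : Type*} [Group G] {φ : _root_.Matrix.SpecialLinearGroup (Fin 3) F →* G}

/-- **An element of order `p` of `SL₃(q)` whose image does not commute with the range.** -/
theorem exists_three [Fintype F] {p : ℕ} [hp : Fact p.Prime] (hp3 : p ≠ 3)
    (hd : p ∣ Fintype.card F ^ 2 + Fintype.card F + 1) (h : ∃ x y, φ x * φ y ≠ φ y * φ x) : ∃ x, x ^ p = 1 ∧ x ∉ cc φ := by
  classical
  have hq : 1 < Fintype.card F := Fintype.one_lt_card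
  have hdvd : p ∣ Nat.card (_root_.Matrix.SpecialLinearGroup (Fin 3) F) := by
    have h1 : Nat.card (_root_.Matrix.SpecialLinearGroup (Fin 3) F) =
        Fintype.card F ^ 3 * ((Fintype.card F ^ 2 - 1) * (Fintype.card F ^ 3 - 1)) := by
      rw [Cfsg.Agent.H953.card_SL 3 (by norm_num)]
      simp only [Finset.sum_range_succ, Finset.prod_Icc_succ_top, _root_.Finset.range_one, _root_.Finset.sum_singleton, _root_.zero_add, _root_.Nat.reduceAdd, _root_.Nat.reduceLeDiff, _root_.Finset.Icc_self, _root_.Finset.prod_singleton]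
    have h2 : Fintype.card F ^ 3 - 1 = (Fintype.card F - 1) * (Fintype.card F ^ 2 + Fintype.card F + 1) := by
      obtain ⟨k, hk⟩ : ∃ k, Fintype.card F = k + 1 := ⟨Fintype.card F - 1, by omega⟩
      rw [hk]
      have e2 : (k + 1) ^ 3 = k * ((k + 1) ^ 2 + (k + 1) + 1) + 1 := by ring
      rw [Nat.add_sub_cancel, e2, Nat.add_sub_cancel]
    rw [h1, h2]
    exact Dvd.dvd.mul_left (Dvd.dvd.mul_left (Dvd.dvd.mul_left hd _) _) _
  obtain ⟨x, hx⟩ := exists_prime_orderOf_dvd_card' (G := _root_.Matrix.SpecialLinearGroup (Fin 3) F) p hdvd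
  refine ⟨x, by rw [← hx, pow_orderOf_eq_one], ?_⟩
  intro hxc
  have hN := cc_normal φ
  have hsimple : IsSimpleGroup (Matrix.ProjectiveSpecialLinearGroup (Fin 3) F) :=
    Cfsg.Agent.LieClassical.SLGen.psl_isSimpleGroup (by simp)
  have hperf : _root_.commutator (_root_.Matrix.SpecialLinearGroup (Fin 3) F) = ⊤ :=
    Cfsg.Agent.LieClassical.SLGen.commutator_eq_top (ι := Fin 3) (F := F) (by simp)
  rcases Cfsg.Agent.S2540.normal_dichotomy hperf hsimple (cc φ) with h1 | h1
  · have hcen := h1 hxc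
    rw [Matrix.SpecialLinearGroup.mem_center_iff] at hcen
    obtain ⟨r, hr, hrx⟩ := hcen
    have hx2 : x ^ 3 = 1 := by
      apply Subtype.ext
      rw [pow_succ, pow_two]
      show (x : Matrix (Fin 3) (Fin 3) F) * (x : Matrix (Fin 3) (Fin 3) F) * (x : Matrix (Fin 3) (Fin 3) F) = 1
      rw [Fintype.card_fin] at hr
      rw [← hrx, ← map_mul, ← map_mul, ← pow_two, ← pow_succ, hr, map_one]
    have h3 := orderOf_dvd_of_pow_eq_one hx2
    rw [hx] at h3
    exact hp3 ((Nat.prime_dvd_prime_iff_eq hp.out Nat.prime_three).1 h3)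
  · obtain ⟨y, z, hyz⟩ := h
    have h2 : y ∈ cc φ := h1 ▸ Subgroup.mem_top y
    exact hyz ((mem_cc.1 h2) z)

end three

end Cfsg.Agent.H120.CycExc
end

-- part: H120/Cyc/Chev
section
/-!
# Chevalley groups: noncyclic Sylow `p`-subgroups for `p ∣ q (q ^ 2 - 1)`
-/

set_option autoImplicit false
set_option linter.unusedSectionVars false

namespace Cfsg.Agent.H120.CycExc

open Matrix Subgroup Cfsg.Lie Cfsg.Agent.ChevalleyStructure.Elts Cfsg.Agent.TitsThree.KExcBase Cfsg.Agent.TitsThree.KExcRT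
  Cfsg.Agent.H123.SpNC Cfsg.Agent.AGraded

universe u

variable {D : ChevalleyDatum} {F : Type u} [Field F]

/-- the homomorphism of a root -/
theorem exists_phi (hD : InList D) {r : ℕ} (hr : r < D.nroots) :
    ∃ φ : _root_.Matrix.SpecialLinearGroup (Fin 2) F →* ↥(D.group F),
      (∀ a, ((φ (uu a) : ↥(D.group F)) : GL D.Idx F) = xG hD r a) ∧
      (∀ a, ((φ (vv a) : ↥(D.group F)) : GL D.Idx F) = xG hD (D.neg r) a) ∧
      (∀ K : Subgroup (GL D.Idx F), (∀ a, xG hD r a ∈ K) → (∀ a, xG hD (D.neg r) a ∈ K) → ∀ g, ((φ g : ↥(D.group F)) : GL D.Idx F) ∈ K) := by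
  obtain ⟨φ, hφ, hφ'⟩ := Cfsg.Agent.S1030.result (F := F) D hD r hr
  have hK : ∀ K : Subgroup (GL D.Idx F), (∀ a, xG hD r a ∈ K) → (∀ a, xG hD (D.neg r) a ∈ K) → ∀ g, φ g ∈ K := by
    intro K h1 h2 g
    have h3 : φ g ∈ D.rootSubgroup F r ⊔ D.rootSubgroup F (D.neg r) := by
      rw [← hφ]; exact ⟨g, rfl⟩
    refine (sup_le ?_ ?_ : D.rootSubgroup F r ⊔ D.rootSubgroup F (D.neg r) ≤ K) h3
    · refine (Subgroup.closure_le K).2 ?_
      rintro g ⟨t, ht⟩
      have : g = xG hD r t := Units.ext ht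
      rw [this]
      exact h1 t
    · refine (Subgroup.closure_le K).2 ?_
      rintro g ⟨t, ht⟩
      have : g = xG hD (D.neg r) t := Units.ext ht
      rw [this]
      exact h2 t
  refine ⟨φ.codRestrict (D.group F) (hK (D.group F) (fun a => xG_mem_group hD r a)
    (fun a => xG_mem_group hD (D.neg r) a)), ?_, ?_, ?_⟩
  · intro a
    exact Units.ext ((hφ' (uu a) a).1 rfl)
  · intro a
    exact Units.ext ((hφ' (vv a) a).2 rfl)
  · intro K h1 h2 g
    exact hK K h1 h2 g

/-- a positive root element is not a negative root element -/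
theorem pos_ne_neg (hD : InList D) {r : ℕ} (h1 : D.IsPosRoot r) (h2 : D.IsNegRoot (D.neg r)) {a b : F} (ha : a ≠ 0) :
    xG hD r a ≠ xG hD (D.neg r) b := by
  intro h
  have h3 : xG hD r a ∈ D.borelSubgroup F ⊓ D.negUnipotent F := by
    refine ⟨?_, ?_⟩
    · exact (le_sup_left : D.posUnipotent F ≤ D.borelSubgroup F) (Subgroup.subset_closure ⟨r, a, h1, rfl⟩)
    · rw [h]
      exact Subgroup.subset_closure ⟨D.neg r, b, h2, rfl⟩
  rw [(Cfsg.Agent.S1037.result (F := F) D hD).1, Subgroup.mem_bot] at h3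
  exact ha ((xG_eq_one_iff hD h1.1 a).1 h3)

/-- the check for a pair of roots -/
def PairChk (D : ChevalleyDatum) (r s : ℕ) : Prop :=
  (D.IsPosRoot r ∧ D.IsNegRoot (D.neg r)) ∧ (D.IsPosRoot s ∧ D.IsNegRoot (D.neg s)) ∧
  (∀ r' ∈ [r, D.neg r], ∀ s' ∈ [s, D.neg s], s' ≠ r' ∧ s' ≠ D.neg r' ∧ D.commTerms r' s' = [])

instance (D : ChevalleyDatum) (r s : ℕ) : Decidable (PairChk D r s) := by
  unfold PairChk; infer_instance

/-- **Noncyclic Sylow `p`-subgroups for `p ∣ q (q ^ 2 - 1)`.** -/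
theorem nc_two (hD : InList D) [Fintype F] {p : ℕ} [Fact p.Prime] (hp2 : p ≠ 2)
    (hd : p ∣ Fintype.card F * (Fintype.card F ^ 2 - 1)) {r s : ℕ} (h : PairChk D r s) : NC p ↥(D.group F) := by
  obtain ⟨⟨hr, hr'⟩, ⟨hs, hs'⟩, hrs⟩ := h
  obtain ⟨φ, hφ1, hφ2, hφ3⟩ := exists_phi (F := F) hD hr.1
  obtain ⟨ψ, hψ1, hψ2, hψ3⟩ := exists_phi (F := F) hD hs.1
  have hcomm : ∀ r' ∈ [r, D.neg r], ∀ s' ∈ [s, D.neg s], ∀ a b : F, xG hD r' a * xG hD s' b = xG hD s' b * xG hD r' a := by
    intro r' hr1 s' hs1 a b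
    obtain ⟨h1, h2, h3⟩ := hrs r' hr1 s' hs1
    have hr2 : r' < D.nroots := by
      rcases List.mem_cons.1 hr1 with rfl | hr1
      · exact hr.1
      · rw [List.mem_singleton.1 hr1]; exact hr'.1
    have hs2 : s' < D.nroots := by
      rcases List.mem_cons.1 hs1 with rfl | hs1
      · exact hs.1
      · rw [List.mem_singleton.1 hs1]; exact hs'.1
    exact comm_nil hD hr2 hs2 h1 h2 h3 a b
  have key : ∀ s' ∈ [s, D.neg s], ∀ (b : F) x, ((φ x : ↥(D.group F)) : GL D.Idx F) * xG hD s' b =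
      xG hD s' b * ((φ x : ↥(D.group F)) : GL D.Idx F) := by
    intro s' hs1 b x
    have h1 := hφ3 (Subgroup.centralizer {xG hD s' b}) (fun a => by
      rw [Subgroup.mem_centralizer_iff]
      rintro y rfl
      exact (hcomm r (by simp) s' hs1 a b).symm) (fun a => by
      rw [Subgroup.mem_centralizer_iff]
      rintro y rfl
      exact (hcomm (D.neg r) (by simp) s' hs1 a b).symm) x
    rw [Subgroup.mem_centralizer_iff] at h1
    exact (h1 _ rfl).symm
  have hc : ∀ x y, φ x * ψ y = ψ y * φ x := by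
    intro x y
    have h1 := hψ3 (Subgroup.centralizer {((φ x : ↥(D.group F)) : GL D.Idx F)}) (fun a => by
      rw [Subgroup.mem_centralizer_iff]
      rintro z rfl
      exact key s (by simp) a x) (fun a => by
      rw [Subgroup.mem_centralizer_iff]
      rintro z rfl
      exact key (D.neg s) (by simp) a x) y
    rw [Subgroup.mem_centralizer_iff] at h1
    exact Subtype.ext (h1 _ rfl)
  have hone : ∀ {t : ℕ}, D.IsPosRoot t → D.IsNegRoot (D.neg t) → ∀ {χ : _root_.Matrix.SpecialLinearGroup (Fin 2) F →* ↥(D.group F)},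
      (∀ a, ((χ (uu a) : ↥(D.group F)) : GL D.Idx F) = xG hD t a) →
      (∀ a, ((χ (vv a) : ↥(D.group F)) : GL D.Idx F) = xG hD (D.neg t) a) → ∃ x, x ^ p = 1 ∧ x ∉ cc χ := by
    intro t ht ht' χ h1 h2
    refine exists_two hp2 hd ?_ ?_
    · intro h3
      have h4 := congrArg Subtype.val h3
      rw [h1, h2] at h4
      exact pos_ne_neg hD ht ht' one_ne_zero h4
    · intro h3
      have h4 := congrArg Subtype.val (eq_inv_of_mul_eq_one_left h3)
      rw [InvMemClass.coe_inv, h1, h2] at h4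
      have h5 : (xG hD (D.neg t) (1 : F))⁻¹ = xG hD (D.neg t) (-1) := by
        rw [inv_eq_iff_mul_eq_one, xG_add, add_neg_cancel, xG_zero]
      rw [h5] at h4
      exact pos_ne_neg hD ht ht' one_ne_zero h4
  exact nc_of_two hc (hone hr hr' hφ1 hφ2) (hone hs hs' hψ1 hψ2)

theorem chk_g2 : PairChk chevG2 6 9 := by decide +kernel
theorem chk_f4 : PairChk chevF4 33 25 := by decide +kernel
theorem chk_e6 : PairChk chevE6 56 46 := by decide +kernel
theorem chk_e7 : PairChk chevE7 93 78 := by decide +kernel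
theorem chk_e8 : PairChk chevE8 162 141 := by decide +kernel

/-! ### `SL₃` -/

/-- the homomorphism of a subsystem of type A₂ -/
theorem exists_pi [Finite F] (hD : InList D) {r : Fin 3 → Fin 3 → ℕ} {s : Fin 3 → Fin 3 → ℤ} (ha : RTa D r) (hb : RTb D r s)
    (hc : RTc D r) (hd : RTd s) : ∃ π : _root_.Matrix.SpecialLinearGroup (Fin 3) F →* ↥(D.group F),
    ∀ i j (hij : i ≠ j) a, ((π (SpecialLinearGroup.transvection hij a) : ↥(D.group F)) : GL D.Idx F) =
      xG hD (r i j) ((s i j : F) * a) := by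
  classical
  have hS := stein (F := F) hD ha hb hc hd
  obtain ⟨π, hπ, -, -⟩ := exists_hom_core hS (by rw [Fintype.card_fin])
    fun _ _ hy hygen _ _ hφ _ _ => Cfsg.Agent.H135.KTwo.ker_eq_bot_fin hy (le_refl 2) hygen hφ
  have hmem : ∀ g, π g ∈ D.group F := by
    intro g
    refine Cfsg.Agent.LieClassical.SLGen.transvection_induction (fun g => π g ∈ D.group F) ?_ ?_ g
    · intro i j hij c
      rw [hπ i j hij]
      exact xG_mem_group hD _ _
    · intro A B hA hB
      rw [map_mul]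
      exact mul_mem hA hB
  exact ⟨π.codRestrict (D.group F) hmem, fun i j hij a => hπ i j hij a⟩

theorem pi_ne (hD : InList D) {r : Fin 3 → Fin 3 → ℕ} {s : Fin 3 → Fin 3 → ℤ} (ha : RTa D r) (hd : RTd s)
    {π : _root_.Matrix.SpecialLinearGroup (Fin 3) F →* ↥(D.group F)}
    (hπ : ∀ i j (hij : i ≠ j) a, ((π (SpecialLinearGroup.transvection hij a) : ↥(D.group F)) : GL D.Idx F) =
      xG hD (r i j) ((s i j : F) * a)) {i j : Fin 3} (hij : i ≠ j) {a : F} (ha0 : a ≠ 0) :
    π (SpecialLinearGroup.transvection hij a) ≠ 1 := by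
  intro h
  have h1 := congrArg Subtype.val h
  rw [hπ i j hij] at h1
  have h2 := (xG_eq_one_iff hD (ha i j hij) _).1 h1
  rcases mul_eq_zero.1 h2 with h3 | h3
  · have h4 : ((s i j * s i j : ℤ) : F) = 1 := by rw [hd, Int.cast_one]
    rw [Int.cast_mul, h3, zero_mul] at h4
    exact zero_ne_one h4
  · exact ha0 h3

/-- the check for two commuting subsystems of type A₂ -/
def ThreeChk (D : ChevalleyDatum) (r r' : Fin 3 → Fin 3 → ℕ) : Prop :=
  ∀ i j, i ≠ j → ∀ k l, k ≠ l → r' k l ≠ r i j ∧ r' k l ≠ D.neg (r i j) ∧ D.commTerms (r i j) (r' k l) = []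

instance (D : ChevalleyDatum) (r r' : Fin 3 → Fin 3 → ℕ) : Decidable (ThreeChk D r r') := by
  unfold ThreeChk; infer_instance

/-- **Noncyclic Sylow `p`-subgroups for `p ∣ q ^ 2 + q + 1`.** -/
theorem nc_three (hD : InList D) [Fintype F] {p : ℕ} [Fact p.Prime] (hp3 : p ≠ 3)
    (hdv : p ∣ Fintype.card F ^ 2 + Fintype.card F + 1) {r r' : Fin 3 → Fin 3 → ℕ} {s s' : Fin 3 → Fin 3 → ℤ}
    (ha : RTa D r) (hb : RTb D r s) (hc : RTc D r) (hd : RTd s) (ha' : RTa D r') (hb' : RTb D r' s') (hc' : RTc D r')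
    (hd' : RTd s') (h : ThreeChk D r r') : NC p ↥(D.group F) := by
  classical
  obtain ⟨φ, hφ⟩ := exists_pi (F := F) hD ha hb hc hd
  obtain ⟨ψ, hψ⟩ := exists_pi (F := F) hD ha' hb' hc' hd'
  have hnc : ∀ {r : Fin 3 → Fin 3 → ℕ} {s : Fin 3 → Fin 3 → ℤ} (_ : RTa D r) (_ : RTd s)
      {π : _root_.Matrix.SpecialLinearGroup (Fin 3) F →* ↥(D.group F)}
      (_ : ∀ i j (hij : i ≠ j) a, ((π (SpecialLinearGroup.transvection hij a) : ↥(D.group F)) : GL D.Idx F) =
        xG hD (r i j) ((s i j : F) * a)), ∃ x, x ^ p = 1 ∧ x ∉ cc π := by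
    intro r s ha hd π hπ
    refine exists_three hp3 hdv ?_
    have h01 : (0 : Fin 3) ≠ 1 := by decide
    have h12 : (1 : Fin 3) ≠ 2 := by decide
    have h02 : (0 : Fin 3) ≠ 2 := by decide
    by_contra hcon
    push Not at hcon
    have h1 := hcon (SpecialLinearGroup.transvection h01 1) (SpecialLinearGroup.transvection h12 1)
    rw [← map_mul, ← map_mul] at h1
    have h2 : SpecialLinearGroup.transvection h01 (1 : F) * SpecialLinearGroup.transvection h12 1 =
        SpecialLinearGroup.transvection h02 1 *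
          (SpecialLinearGroup.transvection h12 1 * SpecialLinearGroup.transvection h01 1) := by
      apply Subtype.ext
      show (1 + Matrix.single 0 1 (1 : F)) * (1 + Matrix.single 1 2 1) =
        (1 + Matrix.single 0 2 1) * ((1 + Matrix.single 1 2 1) * (1 + Matrix.single 0 1 1))
      ext i j
      (revert i j; simp only [Matrix.mul_apply, Fin.sum_univ_three, Matrix.one_apply, Matrix.single_apply, Matrix.add_apply, _root_.Fin.forall_fin_succ, Fin.isValue, _root_.one_ne_zero, _root_.and_false, ↓reduceIte, _root_.add_zero, _root_.false_and, _root_.mul_ite, _root_.mul_one, _root_.MulZeroClass.mul_zero, _root_.and_true, _root_.true_and, Fin.reduceEq, _root_.ite_mul, _root_.one_mul, _root_.MulZeroClass.zero_mul, _root_.zero_ne_one, _root_.ite_self, _root_.zero_add, _root_.Fin.succ_zero_eq_one, _root_.Fin.succ_one_eq_two, _root_.IsEmpty.forall_iff, _root_.and_self, _root_.Fin.succ_ne_zero, _root_.add_eq_left, _root_.ite_eq_right_iff, _root_.imp_false, _root_.not_false_eq_true])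
    rw [h2, map_mul] at h1
    exact pi_ne hD ha hd hπ h02 one_ne_zero (by simpa using h1)
  have hcomm : ∀ x y, φ x * ψ y = ψ y * φ x := by
    intro x
    refine Cfsg.Agent.LieClassical.SLGen.transvection_induction (fun x => ∀ y, φ x * ψ y = ψ y * φ x) ?_ ?_ x
    · intro i j hij a y
      refine Cfsg.Agent.LieClassical.SLGen.transvection_induction
        (fun y => φ (SpecialLinearGroup.transvection hij a) * ψ y = ψ y * φ (SpecialLinearGroup.transvection hij a)) ?_ ?_ y
      · intro k l hkl b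
        apply Subtype.ext
        show ((φ _ : ↥(D.group F)) : GL D.Idx F) * ((ψ _ : ↥(D.group F)) : GL D.Idx F) = _ * _
        rw [hφ, hψ]
        obtain ⟨h1, h2, h3⟩ := h i j hij k l hkl
        exact comm_nil hD (ha i j hij) (ha' k l hkl) h1 h2 h3 _ _
      · intro A B hA hB
        rw [map_mul, ← mul_assoc, hA, mul_assoc, hB, mul_assoc]
    · intro A B hA hB y
      rw [map_mul, mul_assoc, hB, ← mul_assoc, hA, mul_assoc]
  exact nc_of_two hcomm (hnc ha hd hφ) (hnc ha' hd' hψ)

end Cfsg.Agent.H120.CycExc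
end

-- part: H120/Cyc/Rows
section
/-!
# Cyclic Sylow subgroups and degrees: the untwisted exceptional groups

`row_g2`, `row_f4`, `row_e6`, `row_e7`, `row_e8` : the rows of S2351.
-/

set_option autoImplicit false
set_option linter.unusedSectionVars false

namespace Cfsg.Agent.H120.CycExc

open Module Cfsg.Lie Cfsg.Agent.ChevalleyStructure.Elts Cfsg.Agent.KFacts.En.Roots
  Cfsg.Agent.H122 Cfsg.Agent.H121.Cyc Cfsg.Agent.H123.SpNC Cfsg.Agent.H120.CycExc.Num
  Cfsg.Agent.TitsThree.KExcRT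

universe u

theorem row_of {p : ℕ} [hp : Fact p.Prime] {G : Type*} [Group G] [Finite G] {q b : ℕ} (hb : MinDeg G b)
    (hnc : p ∣ q * (q ^ 2 - 1) → NC p G)
    (hbd : ¬ p ∣ q * (q ^ 2 - 1) → NC p G ∨ ∀ a, p ^ a ∣ Nat.card G → p ^ a ≤ b + 2) : Row p G := by
  by_cases h : p ∣ q * (q ^ 2 - 1)
  · exact Row.of_nc (hnc h)
  · rcases hbd h with h1 | h1
    · exact Row.of_nc h1
    · refine Row.of_card hb fun P => ?_
      obtain ⟨n, hn⟩ := IsPGroup.iff_card.1 P.2
      rw [hn]
      apply h1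
      rw [← hn]
      exact Subgroup.card_subgroup_dvd_card _

/-- the `p`-part of the order -/
theorem dvd_prod {p : ℕ} (hp : p.Prime) {q a c N m P : ℕ} (hpq : ¬ p ∣ q) (h : c * N = q ^ m * P) (hN : p ^ a ∣ N) :
    p ^ a ∣ P := by
  have h1 : p ^ a ∣ P * q ^ m := by
    rw [mul_comm P, ← h]
    exact hN.mul_left c
  exact step0 hp (fun h2 => hpq (hp.dvd_of_dvd_pow h2)) h1

theorem pow_le_mul {q : ℕ} (hq : 2 ≤ q) (n : ℕ) : q ^ (n + 1) ≤ q ^ n * (q ^ 2 - 1) := by
  rw [pow_succ]
  refine Nat.mul_le_mul_left _ ?_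
  have h1 : q * 2 ≤ q ^ 2 := by rw [pow_two]; exact Nat.mul_le_mul_left _ hq
  omega

theorem row_e6' (F : Type u) [Field F] [Fintype F] {p : ℕ} [hp : Fact p.Prime] (hp2 : p ≠ 2) :
    Row p ↥(chevE6.group F) := by
  have hs : IsSimpleGroup ↥(chevE6.group F) := (Cfsg.Agent.S1054.result chevE6 (by simp)).1
  have hq : 2 ≤ Fintype.card F := Fintype.one_lt_card
  have hq1 : 1 ≤ Fintype.card F := by omega
  refine row_of (q := Fintype.card F) (minDeg_E ty_E6 F echk6) (fun h => nc_two (by simp) hp2 h chk_e6) (fun h => Or.inr ?_)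
  intro a ha
  obtain ⟨hpq, he3⟩ := three_le hp.out hq1 h
  have hp5 := five_le hp.out hp2 hq1 h
  have h1 : p ^ a ∣ (([2, 5, 6, 8, 9, 12] : List ℕ).map fun d => Fintype.card F ^ d - 1).prod := by
    refine dvd_prod hp.out (c := Nat.gcd 3 (Fintype.card F - 1)) (m := 36) hpq ?_ ha
    refine (Cfsg.Agent.S1063.result (F := F) rfl).trans ?_
    simp only [List.map_cons, List.map_nil, List.prod_cons, List.prod_nil]
    ring
  have hall : ∀ e ≤ 12, 3 ≤ e → chk [2, 5, 6, 8, 9, 12] 10 e = true := by decide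
  have h2 := bound_all hp.out hp5 hpq hq he3 (N := 12) (by decide) (fun h => hall _ h he3) h1
  exact h2.trans ((pow_le_mul hq 9).trans (Nat.le_add_right _ _))

theorem row_e7' (F : Type u) [Field F] [Fintype F] {p : ℕ} [hp : Fact p.Prime] (hp2 : p ≠ 2) :
    Row p ↥(chevE7.group F) := by
  have hs : IsSimpleGroup ↥(chevE7.group F) := (Cfsg.Agent.S1054.result chevE7 (by simp)).1
  have hq : 2 ≤ Fintype.card F := Fintype.one_lt_card
  have hq1 : 1 ≤ Fintype.card F := by omega
  refine row_of (q := Fintype.card F) (minDeg_E ty_E7 F echk7) (fun h => nc_two (by simp) hp2 h chk_e7) (fun h => Or.inr ?_)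
  intro a ha
  obtain ⟨hpq, he3⟩ := three_le hp.out hq1 h
  have hp5 := five_le hp.out hp2 hq1 h
  have h1 : p ^ a ∣ (([2, 6, 8, 10, 12, 14, 18] : List ℕ).map fun d => Fintype.card F ^ d - 1).prod := by
    refine dvd_prod hp.out (c := Nat.gcd 2 (Fintype.card F - 1)) (m := 63) hpq ?_ ha
    refine (Cfsg.Agent.S1064.result (F := F) rfl).trans ?_
    simp only [List.map_cons, List.map_nil, List.prod_cons, List.prod_nil]
    ring
  have hall : ∀ e ≤ 18, 3 ≤ e → chk [2, 6, 8, 10, 12, 14, 18] 12 e = true := by decide +kernel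
  have h2 := bound_all hp.out hp5 hpq hq he3 (N := 18) (by decide) (fun h => hall _ h he3) h1
  exact h2.trans ((pow_le_mul hq 11).trans (Nat.le_add_right _ _))

theorem row_e8' (F : Type u) [Field F] [Fintype F] {p : ℕ} [hp : Fact p.Prime] (hp2 : p ≠ 2) :
    Row p ↥(chevE8.group F) := by
  have hs : IsSimpleGroup ↥(chevE8.group F) := (Cfsg.Agent.S1054.result chevE8 (by simp)).1
  have hq : 2 ≤ Fintype.card F := Fintype.one_lt_card
  have hq1 : 1 ≤ Fintype.card F := by omega
  refine row_of (q := Fintype.card F) (minDeg_E ty_E8 F echk8) (fun h => nc_two (by simp) hp2 h chk_e8) (fun h => Or.inr ?_)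
  intro a ha
  obtain ⟨hpq, he3⟩ := three_le hp.out hq1 h
  have hp5 := five_le hp.out hp2 hq1 h
  have h1 : p ^ a ∣ (([2, 8, 12, 14, 18, 20, 24, 30] : List ℕ).map fun d => Fintype.card F ^ d - 1).prod := by
    refine dvd_prod hp.out (m := 120) (c := 1) hpq ?_ ha
    rw [one_mul]
    refine (Cfsg.Agent.S1065.result (F := F) rfl).trans ?_
    simp only [List.map_cons, List.map_nil, List.prod_cons, List.prod_nil]
    ring
  refine le_trans ?_ ((pow_le_mul hq 20).trans (Nat.le_add_right _ _))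
  by_cases he4 : orderOf ((Fintype.card F : ℕ) : ZMod p) = 4
  · -- `e = 4`
    have h2 : p ^ a ∣ (Fintype.card F ^ 20 - 1) *
        (([2, 8, 12, 14, 18, 24, 30] : List ℕ).map fun d => Fintype.card F ^ d - 1).prod := by
      convert h1 using 1
      simp only [List.map_cons, List.map_nil, List.prod_cons, List.prod_nil]
      ring
    have h3 := fold (q := Fintype.card F) hp.out hq1 _ _ (fun d hd hed => by
      rw [he4] at hed ⊢
      have hd' : d / 4 = 2 ∨ d / 4 = 3 ∨ d / 4 = 6 := by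
        simp only [List.mem_cons, List.not_mem_nil, or_false] at hd
        (clear * - hed hd; omega)
      intro h4
      have h5 : p ∣ 6 := by
        rcases hd' with h | h | h <;> rw [h] at h4
        · exact h4.trans (by norm_num)
        · exact h4.trans (by norm_num)
        · exact h4
      have := Nat.le_of_dvd (by norm_num) h5
      have : p = 5 ∨ p = 6 := by omega
      rcases this with rfl | rfl
      · omega
      · exact absurd hp.out (by norm_num)) h2
    rw [he4] at h3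
    have h4 : (([2, 8, 12, 14, 18, 24, 30] : List ℕ).countP fun d => decide (4 ∣ d)) = 3 := by decide
    rw [h4] at h3
    have h5 := half (f := 2) hp.out hq1 (by norm_num) he4 h3
    have e1 : Fintype.card F ^ 20 - 1 = (Fintype.card F ^ 10 - 1) * (Fintype.card F ^ 10 + 1) := by
      obtain ⟨x, hx⟩ : ∃ x, Fintype.card F ^ 10 = x + 1 :=
        ⟨Fintype.card F ^ 10 - 1, by have := Nat.one_le_pow 10 _ hq1; omega⟩
      have : Fintype.card F ^ 20 = Fintype.card F ^ 10 * Fintype.card F ^ 10 := by rw [← pow_add]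
      rw [this, hx, Nat.add_sub_cancel]
      have : (x + 1) * (x + 1) = x * (x + 1 + 1) + 1 := by ring
      rw [this, Nat.add_sub_cancel]
    have h6 : p ^ a ∣ ((Fintype.card F ^ 10 + 1) * (Fintype.card F ^ 2 + 1) ^ 3) * (Fintype.card F ^ 10 - 1) := by
      convert h5 using 1
      rw [e1]
      ring
    have h7 := step0 hp.out (fun h => by
      rw [dvd_iff hq1, he4] at h
      omega) h6
    refine (Nat.le_of_dvd (by positivity) h7).trans ?_
    calc (Fintype.card F ^ 10 + 1) * (Fintype.card F ^ 2 + 1) ^ 3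
        ≤ Fintype.card F ^ 11 * (Fintype.card F ^ 3) ^ 3 :=
          Nat.mul_le_mul (le_pow_succ hq 10) (Nat.pow_le_pow_left (le_pow_succ hq 2) 3)
      _ = Fintype.card F ^ 20 := by rw [← pow_mul, ← pow_add]
      _ ≤ Fintype.card F ^ 21 := Nat.pow_le_pow_right (by omega) (by norm_num)
  · have hall : ∀ e ≤ 30, 3 ≤ e → e ≠ 4 → chk [2, 8, 12, 14, 18, 20, 24, 30] 21 e = true := by decide +kernel
    exact bound_all hp.out hp5 hpq hq he3 (N := 30) (by decide) (fun h => hall _ h he3 he4) h1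

/-! ### `F₄` -/

/-- the long `A₂` -/
def rA : Fin 3 → Fin 3 → ℕ := ![![0, 33, 44], ![chevF4.neg 33, 0, 40], ![chevF4.neg 44, chevF4.neg 40, 0]]
/-- the other `A₂` -/
def rB : Fin 3 → Fin 3 → ℕ := ![![0, 25, 26], ![chevF4.neg 25, 0, 24], ![chevF4.neg 26, chevF4.neg 24, 0]]
/-- its signs -/
def sB : Fin 3 → Fin 3 → ℤ := ![![1, -1, 1], ![-1, 1, 1], ![1, 1, 1]]

theorem nc_f4 {F : Type u} [Field F] [Fintype F] {p : ℕ} [Fact p.Prime] (hp3 : p ≠ 3)
    (hdv : p ∣ Fintype.card F ^ 2 + Fintype.card F + 1) : NC p ↥(chevF4.group F) :=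
  nc_three (by simp) hp3 hdv (r := rA) (s := fun _ _ => 1) (r' := rB) (s' := sB) (by decide +kernel) (by decide +kernel)
    (by decide +kernel) (by decide +kernel) (by decide +kernel) (by decide +kernel) (by decide +kernel)
    (by decide +kernel) (by decide +kernel)

theorem cube_sub {q : ℕ} (hq : 1 ≤ q) : q ^ 3 - 1 = (q - 1) * (q ^ 2 + q + 1) := by
  obtain ⟨k, rfl⟩ : ∃ k, q = k + 1 := ⟨q - 1, by omega⟩
  have : (k + 1) ^ 3 = k * ((k + 1) ^ 2 + (k + 1) + 1) + 1 := by ring
  rw [this, Nat.add_sub_cancel, Nat.add_sub_cancel]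

theorem cube_add {x : ℕ} (hx : 1 ≤ x) : x ^ 3 + 1 = (x + 1) * (x ^ 2 - x + 1) := by
  obtain ⟨k, rfl⟩ : ∃ k, x = k + 1 := ⟨x - 1, by omega⟩
  have : (k + 1) ^ 2 = k * (k + 1) + (k + 1) := by ring
  rw [this, Nat.add_sub_cancel]
  ring

theorem row_f4' (F : Type u) [Field F] [Fintype F] {p : ℕ} [hp : Fact p.Prime] (hp2 : p ≠ 2) :
    Row p ↥(chevF4.group F) := by
  have hs : IsSimpleGroup ↥(chevF4.group F) := (Cfsg.Agent.S1054.result chevF4 (by simp)).1
  have hq : 2 ≤ Fintype.card F := Fintype.one_lt_card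
  have hq1 : 1 ≤ Fintype.card F := by omega
  refine row_of (q := Fintype.card F) (FFour.minDeg_F4 F) (fun h => nc_two (by simp) hp2 h chk_f4) (fun h => ?_)
  obtain ⟨hpq, he3⟩ := three_le hp.out hq1 h
  have hp5 := five_le hp.out hp2 hq1 h
  have hnot : ∀ d, ¬ orderOf ((Fintype.card F : ℕ) : ZMod p) ∣ d → ¬ p ∣ Fintype.card F ^ d - 1 :=
    fun d h1 h2 => h1 ((dvd_iff hq1 d).1 h2)
  by_cases h3 : orderOf ((Fintype.card F : ℕ) : ZMod p) = 3
  · left
    refine nc_f4 (by omega) ?_
    have h4 : p ∣ Fintype.card F ^ 3 - 1 := (dvd_iff hq1 3).2 (by rw [h3])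
    rw [cube_sub hq1] at h4
    rcases (Nat.Prime.dvd_mul hp.out).1 h4 with h5 | h5
    · exfalso
      have := hnot 1 (by rw [h3]; norm_num)
      rw [pow_one] at this
      exact this h5
    · exact h5
  right
  intro a ha
  have h1 : p ^ a ∣ 1 * (([2, 6, 8, 12] : List ℕ).map fun d => Fintype.card F ^ d - 1).prod := by
    rw [one_mul]
    refine dvd_prod hp.out (m := 24) (c := 1) hpq ?_ ha
    rw [one_mul]
    refine (Cfsg.Agent.S1062.result (F := F) rfl).trans ?_
    simp only [List.map_cons, List.map_nil, List.prod_cons, List.prod_nil]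
    ring
  have h2 := fold (q := Fintype.card F) hp.out hq1 _ _ (fun d hd hed => by
    have hd12 : d ≤ 12 ∧ d ≠ 0 := by
      simp only [List.mem_cons, List.not_mem_nil, or_false] at hd
      omega
    have h4 : d / orderOf ((Fintype.card F : ℕ) : ZMod p) ≤ 4 := by
      calc d / orderOf ((Fintype.card F : ℕ) : ZMod p) ≤ d / 3 := Nat.div_le_div_left he3 (by norm_num)
        _ ≤ 12 / 3 := Nat.div_le_div_right hd12.1
        _ = 4 := by norm_num
    have h5 : 0 < d / orderOf ((Fintype.card F : ℕ) : ZMod p) :=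
      Nat.div_pos (Nat.le_of_dvd (Nat.pos_of_ne_zero hd12.2) hed) (by omega)
    intro h6
    have := Nat.le_of_dvd h5 h6
    omega) h1
  -- the bound
  have hfin : p ^ a ≤ (Fintype.card F ^ 2 + 1) ^ 2 := by
    generalize hq' : Fintype.card F = q at *
    have hx1 : 1 ≤ q ^ 2 := Nat.one_le_pow _ _ hq1
    have hle1 : q ^ 2 - q + 1 ≤ q ^ 2 + 1 := by omega
    by_cases h4 : orderOf ((q : ℕ) : ZMod p) = 4
    · rw [h4] at h2
      have h5 := half (f := 2) hp.out hq1 (by norm_num) h4 h2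
      rw [one_mul] at h5
      exact Nat.le_of_dvd (by positivity) h5
    by_cases h6 : orderOf ((q : ℕ) : ZMod p) = 6
    · rw [h6] at h2
      have h5 := half (f := 3) hp.out hq1 (by norm_num) h6 h2
      rw [cube_add hq1] at h5
      have h7 := step_pow hp.out (fun h => by
        have h8 : p ∣ q ^ 2 - 1 := by
          have e : q ^ 2 - 1 = (q - 1) * (q + 1) := by
            obtain ⟨k, rfl⟩ : ∃ k, q = k + 1 := ⟨q - 1, by omega⟩
            have : (k + 1) ^ 2 = k * (k + 1 + 1) + 1 := by ring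
            rw [this, Nat.add_sub_cancel, Nat.add_sub_cancel]
          rw [e]
          exact h.mul_left _
        exact hnot 2 (by rw [h6]; norm_num) h8) h5
      rw [one_mul] at h7
      exact (Nat.le_of_dvd (by positivity) h7).trans (Nat.pow_le_pow_left hle1 _)
    by_cases h8 : orderOf ((q : ℕ) : ZMod p) = 8
    · rw [h8] at h2
      have h5 := half (f := 4) hp.out hq1 (by norm_num) h8 h2
      rw [one_mul] at h5
      have h9 : (([2, 6, 8, 12] : List ℕ).countP fun d => decide (8 ∣ d)) = 1 := by decide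
      rw [h9, pow_one] at h5
      refine (Nat.le_of_dvd (by positivity) h5).trans ?_
      linarith only [hx1]
    by_cases h12 : orderOf ((q : ℕ) : ZMod p) = 12
    · rw [h12] at h2
      have h5 := half (f := 6) hp.out hq1 (by norm_num) h12 h2
      have h9 : (([2, 6, 8, 12] : List ℕ).countP fun d => decide (12 ∣ d)) = 1 := by decide
      have e : q ^ 6 + 1 = (q ^ 2 + 1) * ((q ^ 2) ^ 2 - q ^ 2 + 1) := by
        rw [← cube_add hx1]
        ring
      rw [h9, e] at h5
      have h7 := step_pow hp.out (fun h => by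
        have h8 : p ∣ q ^ 4 - 1 := by
          have e : q ^ 4 - 1 = (q ^ 2 - 1) * (q ^ 2 + 1) := by
            obtain ⟨k, hk⟩ : ∃ k, q ^ 2 = k + 1 := ⟨q ^ 2 - 1, by omega⟩
            have h10 : q ^ 4 = q ^ 2 * q ^ 2 := by ring
            rw [h10, hk]
            have : (k + 1) * (k + 1) = k * (k + 1 + 1) + 1 := by ring
            rw [this, Nat.add_sub_cancel, Nat.add_sub_cancel]
          rw [e]
          exact h.mul_left _
        exact hnot 4 (by rw [h12]; norm_num) h8) h5
      rw [one_mul, pow_one] at h7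
      refine (Nat.le_of_dvd (by (clear * -; positivity)) h7).trans ?_
      have : (q ^ 2) ^ 2 - q ^ 2 + 1 ≤ (q ^ 2) ^ 2 + 1 := by omega
      linarith only [hx1, this]
    · have hz : (([2, 6, 8, 12] : List ℕ).countP fun d => decide (orderOf ((q : ℕ) : ZMod p) ∣ d)) = 0 := by
        rw [List.countP_eq_zero]
        intro d hd
        simp only [decide_eq_true_eq]
        intro hed
        simp only [List.mem_cons, List.not_mem_nil, or_false] at hd
        have hle := Nat.le_of_dvd (by omega) hed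
        have hle2 : orderOf ((q : ℕ) : ZMod p) ≤ 12 := by omega
        generalize orderOf ((q : ℕ) : ZMod p) = e at *
        interval_cases e <;> (clear * - h3 h4 h6 h8 h12 hd hed; omega)
      rw [hz, pow_zero, one_mul] at h2
      refine (Nat.le_of_dvd one_pos h2).trans ?_
      exact Nat.one_le_pow _ _ (by omega)
  refine hfin.trans ?_
  generalize Fintype.card F = q at *
  rcases Nat.lt_or_ge q 3 with h4 | h4
  · have : q = 2 := by omega
    subst this
    norm_num
  · obtain ⟨k, rfl⟩ := Nat.exists_eq_add_of_le h4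
    have e : (3 + k) ^ 2 - 1 = 8 + 6 * k + k ^ 2 := by
      have : (3 + k) ^ 2 = 8 + 6 * k + k ^ 2 + 1 := by ring
      omega
    rw [e]
    linarith only [Nat.zero_le (k ^ 3), Nat.zero_le (k ^ 4), Nat.zero_le (k ^ 5), _root_.sq_nonneg (↑k : ℤ), _root_.Nat.cast_nonneg (α := ℤ) (k)]

/-! ### `G₂` -/

/-- the long `A₂` -/
def rG : Fin 3 → Fin 3 → ℕ := ![![0, 6, 11], ![5, 0, 10], ![0, 1, 0]]

theorem minDeg_G2 (F : Type u) [Field F] [Fintype F] [IsSimpleGroup ↥(chevG2.group F)] :
    MinDeg ↥(chevG2.group F) (Fintype.card F ^ 2 - 1) ∧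
    (Fintype.card F ≠ 2 → Fintype.card F ≠ 4 → MinDeg ↥(chevG2.group F) (Fintype.card F ^ 2 + Fintype.card F)) := by
  classical
  have ha : RTa chevG2 rG := by decide +kernel
  have hd : RTd (fun _ _ => 1 : Fin 3 → Fin 3 → ℤ) := by decide +kernel
  obtain ⟨π, hπ⟩ := exists_pi (F := F) (D := chevG2) (by simp) (r := rG) (s := fun _ _ => 1) ha
    (by decide +kernel) (by decide +kernel) hd
  have h01 : (0 : Fin 3) ≠ 1 := by decide
  have hne : ∃ x, π x ≠ 1 := ⟨_, pi_ne (by simp) ha hd hπ h01 one_ne_zero⟩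
  obtain ⟨h1, h2⟩ := minDeg_sl3 F
  exact ⟨MinDeg.of_hom h1 π hne, fun h3 h4 => MinDeg.of_hom (h2 h3 h4) π hne⟩

theorem row_g2' (F : Type u) [Field F] [Fintype F] (hF : 3 ≤ Fintype.card F) {p : ℕ} [hp : Fact p.Prime] (hp2 : p ≠ 2) :
    Row p ↥(chevG2.group F) := by
  classical
  have hex : ∃ a : F, a ≠ 0 ∧ a ≠ 1 := by
    by_contra hcon
    push Not at hcon
    have h1 : (Finset.univ : Finset F) ⊆ {0, 1} := by
      intro a _
      rw [Finset.mem_insert, Finset.mem_singleton]
      by_cases h : a = 0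
      · exact Or.inl h
      · exact Or.inr (hcon a h)
    have h2 := (Finset.card_le_card h1).trans (Finset.card_insert_le _ _)
    rw [Finset.card_univ, Finset.card_singleton] at h2
    omega
  have hs : IsSimpleGroup ↥(chevG2.group F) := (Cfsg.Agent.S1055.result hex).1
  have hq1 : 1 ≤ Fintype.card F := by omega
  obtain ⟨hb1, hb2⟩ := minDeg_G2 F
  -- the `p`-part
  have hpart : ¬ p ∣ Fintype.card F * (Fintype.card F ^ 2 - 1) → ∀ a, p ^ a ∣ Nat.card ↥(chevG2.group F) →
      p ^ a ∣ Fintype.card F ^ 2 + Fintype.card F + 1 ∨ p ^ a ∣ Fintype.card F ^ 2 - Fintype.card F + 1 := by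
    intro h a ha
    obtain ⟨hpq, he3⟩ := three_le hp.out hq1 h
    have hp5 := five_le hp.out hp2 hq1 h
    have hnot : ∀ d, ¬ orderOf ((Fintype.card F : ℕ) : ZMod p) ∣ d → ¬ p ∣ Fintype.card F ^ d - 1 :=
      fun d h1 h2 => h1 ((dvd_iff hq1 d).1 h2)
    have h1 : p ^ a ∣ 1 * (([2, 6] : List ℕ).map fun d => Fintype.card F ^ d - 1).prod := by
      rw [one_mul]
      refine dvd_prod hp.out (m := 6) (c := 1) hpq ?_ ha
      rw [one_mul]
      refine (Cfsg.Agent.S1059.result (F := F) rfl).trans ?_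
      simp only [List.map_cons, List.map_nil, List.prod_cons, List.prod_nil]
      ring
    have h2 := fold (q := Fintype.card F) hp.out hq1 _ _ (fun d hd hed => by
      have hd6 : d ≤ 6 ∧ d ≠ 0 := by
        simp only [List.mem_cons, List.not_mem_nil, or_false] at hd
        omega
      have h4 : d / orderOf ((Fintype.card F : ℕ) : ZMod p) ≤ 2 := by
        calc d / orderOf ((Fintype.card F : ℕ) : ZMod p) ≤ d / 3 := Nat.div_le_div_left he3 (by norm_num)
          _ ≤ 6 / 3 := Nat.div_le_div_right hd6.1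
          _ = 2 := by norm_num
      have h5 : 0 < d / orderOf ((Fintype.card F : ℕ) : ZMod p) :=
        Nat.div_pos (Nat.le_of_dvd (Nat.pos_of_ne_zero hd6.2) hed) (by omega)
      intro h6
      have := Nat.le_of_dvd h5 h6
      omega) h1
    generalize hq' : Fintype.card F = q at *
    by_cases h3 : orderOf ((q : ℕ) : ZMod p) = 3
    · left
      rw [h3] at h2
      have h9 : (([2, 6] : List ℕ).countP fun d => decide (3 ∣ d)) = 1 := by decide
      rw [h9, cube_sub hq1] at h2
      have h7 := step_pow hp.out (fun h => by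
        have := hnot 1 (by rw [h3]; norm_num)
        rw [pow_one] at this
        exact this h) h2
      rwa [one_mul, pow_one] at h7
    by_cases h6 : orderOf ((q : ℕ) : ZMod p) = 6
    · right
      rw [h6] at h2
      have h9 : (([2, 6] : List ℕ).countP fun d => decide (6 ∣ d)) = 1 := by decide
      have h5 := half (f := 3) hp.out hq1 (by norm_num) h6 h2
      rw [h9, cube_add hq1] at h5
      have h7 := step_pow hp.out (fun h => by
        have h8 : p ∣ q ^ 2 - 1 := by
          have e : q ^ 2 - 1 = (q - 1) * (q + 1) := by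
            obtain ⟨k, rfl⟩ : ∃ k, q = k + 1 := ⟨q - 1, by omega⟩
            have : (k + 1) ^ 2 = k * (k + 1 + 1) + 1 := by ring
            rw [this, Nat.add_sub_cancel, Nat.add_sub_cancel]
          rw [e]
          exact h.mul_left _
        exact hnot 2 (by rw [h6]; norm_num) h8) h5
      rwa [one_mul, pow_one] at h7
    · left
      have hz : (([2, 6] : List ℕ).countP fun d => decide (orderOf ((q : ℕ) : ZMod p) ∣ d)) = 0 := by
        rw [List.countP_eq_zero]
        intro d hd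
        simp only [decide_eq_true_eq]
        intro hed
        simp only [List.mem_cons, List.not_mem_nil, or_false] at hd
        have hle := Nat.le_of_dvd (by omega) hed
        have hle2 : orderOf ((q : ℕ) : ZMod p) ≤ 6 := by omega
        generalize orderOf ((q : ℕ) : ZMod p) = e at *
        interval_cases e <;> omega
      rw [hz, pow_zero, one_mul] at h2
      exact h2.trans (one_dvd _)
  by_cases h4 : Fintype.card F = 4
  · refine row_of (q := Fintype.card F) hb1 (fun h => nc_two (by simp) hp2 h chk_g2) (fun h => Or.inr ?_)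
    intro a ha
    have h1 := hpart h a ha
    have hp5 := five_le hp.out hp2 hq1 h
    rw [h4] at h1 ⊢
    have h2 : p ^ a ∣ 7 * 3 ∨ p ^ a ∣ 13 := h1
    rcases h2 with h2 | h2
    · have h3 := step0 hp.out (fun h => by
        have := Nat.le_of_dvd (by norm_num) h
        omega) h2
      have := Nat.le_of_dvd (by norm_num) h3
      norm_num
      omega
    · have := Nat.le_of_dvd (by norm_num) h2
      norm_num
      omega
  · refine row_of (q := Fintype.card F) (hb2 (by omega) h4) (fun h => nc_two (by simp) hp2 h chk_g2) (fun h => Or.inr ?_)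
    intro a ha
    rcases hpart h a ha with h1 | h1
    · have := Nat.le_of_dvd (by positivity) h1
      omega
    · have := Nat.le_of_dvd (by positivity) h1
      omega

/-! ### The rows -/

section rows

variable {p : ℕ} [Fact p.Prime] {G : Type*} [Group G] [Finite G] [IsSimpleGroup G]

theorem row_g2 (hp2 : p ≠ 2) (h : Cfsg.Lie.IsoChevG2 G) : Row p G := by
  obtain ⟨F, _, _, h3, ⟨e⟩⟩ := h
  exact (row_g2' F h3 hp2).congr e.symm

theorem row_f4 (hp2 : p ≠ 2) (h : Cfsg.Lie.IsoF4 G) : Row p G := by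
  obtain ⟨F, _, _, ⟨e⟩⟩ := h
  exact (row_f4' F hp2).congr e.symm

theorem row_e6 (hp2 : p ≠ 2) (h : Cfsg.Lie.IsoChevE6 G) : Row p G := by
  obtain ⟨F, _, _, ⟨e⟩⟩ := h
  exact (row_e6' F hp2).congr e.symm

theorem row_e7 (hp2 : p ≠ 2) (h : Cfsg.Lie.IsoE7 G) : Row p G := by
  obtain ⟨F, _, _, ⟨e⟩⟩ := h
  exact (row_e7' F hp2).congr e.symm

theorem row_e8 (hp2 : p ≠ 2) (h : Cfsg.Lie.IsoE8 G) : Row p G := by
  obtain ⟨F, _, _, ⟨e⟩⟩ := h
  exact (row_e8' F hp2).congr e.symm

end rows

end Cfsg.Agent.H120.CycExc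
end

private theorem dce_fb6e43b9cb14 : _root_.True := by
  try have : _root_.True := by simp only [_root_.Cfsg.Agent.H120.CycExc.Num.chk.eq_1]
  exact _root_.True.intro
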